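import Mathlib
import Cfsg.Agent.H902.AltLie
import Cfsg.Agent.H902.EntsFast
import Cfsg.Agent.Prune
set_option linter.all false

section
prune_inst 0x7fbffffdffbff3ffffff7e7ffff9fffe1bd7dfffffdffb4bffeffbffffffb3ff3bcdffab1de4f8ffcef6e2f538b9f853fbffffffef6ffc7ffffdfff75ffbee7ff7ffbd8911d29524af7ceffffbf17fea7f3fffffffffffffffffffffffffffffffffffffffff

-- part: H365/NearMain
section
prune_inst 0x20040000000000000000000000000000000000000001000000000000000000000000000000000000000000000000000000000000000000000000000000000020000010000400000000000000000000000000000000000000000000000000000000000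
set_option linter.all false
open scoped Cfsg.Agent.FastGrp

-- part: H365/NearOrd
section
/-!
# The exact orders of `q` modulo the primes dividing the order of a group of Lie type
-/

set_option autoImplicit false

namespace Cfsg.Agent.H365.Near

open Finset Cfsg.Agent.H902.Art

/-- the indices `e` for which the cyclotomic value `Φ_e(q)` occurs in the order of the group of shape `X` -/
def EX : Sh → ℕ → Prop
  | .L n, e => e ≤ n
  | .C n, e => (e % 2 = 0 ∧ e ≤ 2 * n) ∨ e ≤ n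
  | .U n, e => (e % 4 = 0 ∧ e ≤ n) ∨ (e % 4 = 2 ∧ e ≤ 2 * n) ∨ 2 * e ≤ n
  | .D n, e => (e % 2 = 0 ∧ e ≤ 2 * (n - 1)) ∨ e ≤ n
  | .DD n, e => (e % 2 = 0 ∧ e ≤ 2 * n) ∨ e ≤ n - 1
  | .G2, e => e ∣ 6
  | .F4, e => e ∣ 8 ∨ e ∣ 12
  | .E6, e => e ∣ 5 ∨ e ∣ 8 ∨ e ∣ 9 ∨ e ∣ 12
  | .E7, e => e ∣ 8 ∨ e ∣ 10 ∨ e ∣ 12 ∨ e ∣ 14 ∨ e ∣ 18
  | .E8, e => e ∣ 14 ∨ e ∣ 18 ∨ e ∣ 20 ∨ e ∣ 24 ∨ e ∣ 30
  | .TE6, e => e ∣ 8 ∨ e ∣ 12 ∨ e = 10 ∨ e = 18
  | .TD4, e => e ∣ 6 ∨ e = 12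
  | .Sz, e => e = 1 ∨ e = 4
  | .Ree, e => e ∣ 2 ∨ e = 6
  | .TF4, e => e ∣ 4 ∨ e = 6 ∨ e = 12

instance (X : Sh) (e : ℕ) : Decidable (EX X e) := by
  cases X <;> unfold EX <;> infer_instance

section

variable {q r : ℕ}

/-- divisibility of `q^k - 1` by the order -/
theorem dvd_sub_iff (hq : 1 ≤ q) (k : ℕ) : r ∣ q ^ k - 1 ↔ orderOf (q : ZMod r) ∣ k :=
  Cfsg.Agent.Lib.Zsigmondy.dvd_pow_sub_one_iff hq k

/-- the order for a divisor of `q^k + 1` -/
theorem ord_of_add (hq : 1 ≤ q) (hr : r.Prime) {k : ℕ} (hk : 1 ≤ k) (h : r ∣ q ^ k + 1) :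
    orderOf (q : ZMod r) ∣ 2 * k ∧ (orderOf (q : ZMod r) = 1 ∨ ¬ orderOf (q : ZMod r) ∣ k) := by
  have hk1 : 1 ≤ q ^ k := Nat.one_le_pow _ _ hq
  constructor
  · rw [← dvd_sub_iff hq]
    refine h.trans ⟨q ^ k - 1, ?_⟩
    have h2 : 1 ≤ q ^ (2 * k) := Nat.one_le_pow _ _ hq
    zify [hk1, h2]; ring
  · by_cases hd : orderOf (q : ZMod r) ∣ k
    · left
      rw [← dvd_sub_iff hq] at hd
      have h6 : r ∣ (q ^ k + 1) - (q ^ k - 1) := Nat.dvd_sub h hd
      have h7 : (q ^ k + 1) - (q ^ k - 1) = 2 := by omega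
      rw [h7] at h6
      have h8 := (Nat.prime_dvd_prime_iff_eq hr Nat.prime_two).1 h6
      subst h8
      have h9 : 2 ∣ q ^ (1:ℕ) - 1 := by
        have h10 : ¬ 2 ∣ q := by
          intro h11
          have h13 : 2 ∣ q ^ k := dvd_pow h11 (by omega)
          omega
        rw [pow_one]; omega
      rw [dvd_sub_iff hq] at h9
      exact Nat.dvd_one.1 h9
    · exact Or.inr hd

theorem even_or {o j : ℕ} (h : o ∣ 2 * j) (hj : 1 ≤ j) : (o % 2 = 0 ∧ o ≤ 2 * j) ∨ o ≤ j := by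
  rcases Nat.mod_two_eq_zero_or_one o with h0 | h1
  · exact Or.inl ⟨h0, Nat.le_of_dvd (by omega) h⟩
  · right
    have h2 : Nat.Coprime o 2 := (Nat.coprime_two_right (n := o)).2 (Nat.odd_iff.2 h1)
    exact Nat.le_of_dvd (by omega) (h2.dvd_of_dvd_mul_left h)

theorem even_of_not {o j : ℕ} (h : o ∣ 2 * j) (hj : ¬ o ∣ j) : o % 2 = 0 := by
  rcases Nat.mod_two_eq_zero_or_one o with h0 | h1
  · exact h0
  · have h2 : Nat.Coprime o 2 := (Nat.coprime_two_right (n := o)).2 (Nat.odd_iff.2 h1)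
    exact absurd (h2.dvd_of_dvd_mul_left h) hj

/-- for odd `k`, the order for a divisor of `q^k + 1` is `2 mod 4` (or one) -/
theorem ord_of_add_odd (hq : 1 ≤ q) (hr : r.Prime) {k : ℕ} (hk : k % 2 = 1) (h : r ∣ q ^ k + 1) :
    orderOf (q : ZMod r) = 1 ∨ (orderOf (q : ZMod r) % 4 = 2 ∧ orderOf (q : ZMod r) ≤ 2 * k) := by
  obtain ⟨h1, h2⟩ := ord_of_add hq hr (by omega) h
  rcases h2 with h2 | h2
  · exact Or.inl h2
  · right
    refine ⟨?_, Nat.le_of_dvd (by omega) h1⟩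
    have h3 := even_of_not h1 h2
    by_contra h4
    have h5 : (4 : ℕ) ∣ orderOf (q : ZMod r) := by omega
    have h6 := h5.trans h1
    omega

end

section

variable {X : Sh} {p f M : ℕ}

/-- **The order of `q` modulo a prime divisor of the group order.** -/
theorem ord_mem (h : Real X p f M) {r : ℕ} (hr : r.Prime) (hrp : r ≠ p) (hd : r ∣ M) :
    EX X (orderOf ((p ^ f : ℕ) : ZMod r)) := by
  have hp := h.hp
  have hn := h.dvd_num_of_dvd hr hrp hd
  have hok := h.ok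
  have hrq := h.not_dvd_q hr hrp
  have hq2 := h.q_ge
  generalize p ^ f = q at *
  have hq : 1 ≤ q := by omega
  have hs : ∀ k : ℕ, r ∣ q ^ k - 1 → orderOf (q : ZMod r) ∣ k := fun k => (dvd_sub_iff hq k).1
  have h1 : r ∣ q - 1 → orderOf (q : ZMod r) ∣ 1 := by
    intro h2; apply hs; rwa [pow_one]
  have hprod : ∀ (n : ℕ) (g : ℕ → ℕ), r ∣ ∏ i ∈ range n, g i → ∃ i, i < n ∧ r ∣ g i := by
    intro n g hg
    obtain ⟨i, hi, hd⟩ := (hr.prime.dvd_finsetProd_iff g).1 hg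
    exact ⟨i, mem_range.1 hi, hd⟩
  generalize ho : orderOf (q : ZMod r) = o at *
  cases X with
  | L n =>
    have hn2 : 2 ≤ n := hok.1
    obtain ⟨i, hi, h2⟩ := hprod _ _ hn
    have h3 := Nat.le_of_dvd (by omega) (hs _ h2)
    show o ≤ n
    omega
  | C m =>
    have hm : 2 ≤ m := hok.1
    obtain ⟨i, hi, h2⟩ := hprod _ _ hn
    have h3 := even_or (hs _ h2) (by omega)
    show (o % 2 = 0 ∧ o ≤ 2 * m) ∨ o ≤ m
    omega
  | U n =>
    have hn3 : 3 ≤ n := hok.1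
    obtain ⟨i, hi, h2⟩ := hprod _ _ hn
    show (o % 4 = 0 ∧ o ≤ n) ∨ (o % 4 = 2 ∧ o ≤ 2 * n) ∨ 2 * o ≤ n
    by_cases hei : Even i
    · rw [if_pos hei] at h2
      obtain ⟨j, hj⟩ := hei
      have h3 : o ∣ 2 * (j + 1) := by
        have := hs _ h2
        rwa [show i + 2 = 2 * (j + 1) by omega] at this
      have h4 := even_or h3 (by omega)
      (clear * - hi hj h4; omega)
    · rw [if_neg hei] at h2
      obtain ⟨j, hj⟩ := Nat.not_even_iff_odd.1 hei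
      have h3 := ord_of_add_odd hq hr (k := i + 2) (by omega) h2
      rw [ho] at h3
      (clear * - hi h3; omega)
  | D m =>
    have hm : 4 ≤ m := hok
    show (o % 2 = 0 ∧ o ≤ 2 * (m - 1)) ∨ o ≤ m
    rcases hr.dvd_mul.1 hn with h2 | h2
    · exact Or.inr (Nat.le_of_dvd (by omega) (hs _ h2))
    · obtain ⟨i, hi, h2⟩ := hprod _ _ h2
      have h3 := even_or (hs _ h2) (by omega)
      (clear * - hi h3; omega)
  | DD m =>
    have hm : 4 ≤ m := hok
    show (o % 2 = 0 ∧ o ≤ 2 * m) ∨ o ≤ m - 1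
    rcases hr.dvd_mul.1 hn with h2 | h2
    · obtain ⟨h3, h4⟩ := ord_of_add hq hr (by omega) h2
      rw [ho] at h3 h4
      rcases h4 with h4 | h4
      · right; omega
      · left; exact ⟨even_of_not h3 h4, Nat.le_of_dvd (by omega) h3⟩
    · obtain ⟨i, hi, h2⟩ := hprod _ _ h2
      have h3 := even_or (hs _ h2) (by omega)
      (clear * - hi h3; omega)
  | G2 =>
    show o ∣ 6
    rcases hr.dvd_mul.1 hn with h2 | h2
    · exact (hs _ h2).trans (by norm_num)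
    · exact hs _ h2
  | F4 =>
    show o ∣ 8 ∨ o ∣ 12
    rcases hr.dvd_mul.1 hn with hn | h2
    · rcases hr.dvd_mul.1 hn with hn | h2
      · rcases hr.dvd_mul.1 hn with h2 | h2
        · exact Or.inl ((hs _ h2).trans (by norm_num))
        · exact Or.inr ((hs _ h2).trans (by norm_num))
      · exact Or.inl (hs _ h2)
    · exact Or.inr (hs _ h2)
  | E6 =>
    show o ∣ 5 ∨ o ∣ 8 ∨ o ∣ 9 ∨ o ∣ 12
    rcases hr.dvd_mul.1 hn with hn | h2
    · rcases hr.dvd_mul.1 hn with hn | h2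
      · rcases hr.dvd_mul.1 hn with hn | h2
        · rcases hr.dvd_mul.1 hn with hn | h2
          · rcases hr.dvd_mul.1 hn with h2 | h2
            · exact Or.inr (Or.inl ((hs _ h2).trans (by norm_num)))
            · exact Or.inl (hs _ h2)
          · exact Or.inr (Or.inr (Or.inr ((hs _ h2).trans (by norm_num))))
        · exact Or.inr (Or.inl (hs _ h2))
      · exact Or.inr (Or.inr (Or.inl (hs _ h2)))
    · exact Or.inr (Or.inr (Or.inr (hs _ h2)))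
  | E7 =>
    show o ∣ 8 ∨ o ∣ 10 ∨ o ∣ 12 ∨ o ∣ 14 ∨ o ∣ 18
    rcases hr.dvd_mul.1 hn with hn | h2
    · rcases hr.dvd_mul.1 hn with hn | h2
      · rcases hr.dvd_mul.1 hn with hn | h2
        · rcases hr.dvd_mul.1 hn with hn | h2
          · rcases hr.dvd_mul.1 hn with hn | h2
            · rcases hr.dvd_mul.1 hn with h2 | h2
              · exact Or.inl ((hs _ h2).trans (by norm_num))
              · exact Or.inr (Or.inr (Or.inl ((hs _ h2).trans (by norm_num))))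
            · exact Or.inl (hs _ h2)
          · exact Or.inr (Or.inl (hs _ h2))
        · exact Or.inr (Or.inr (Or.inl (hs _ h2)))
      · exact Or.inr (Or.inr (Or.inr (Or.inl (hs _ h2))))
    · exact Or.inr (Or.inr (Or.inr (Or.inr (hs _ h2))))
  | E8 =>
    show o ∣ 14 ∨ o ∣ 18 ∨ o ∣ 20 ∨ o ∣ 24 ∨ o ∣ 30
    rcases hr.dvd_mul.1 hn with hn | h2
    · rcases hr.dvd_mul.1 hn with hn | h2
      · rcases hr.dvd_mul.1 hn with hn | h2
        · rcases hr.dvd_mul.1 hn with hn | h2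
          · rcases hr.dvd_mul.1 hn with hn | h2
            · rcases hr.dvd_mul.1 hn with hn | h2
              · rcases hr.dvd_mul.1 hn with h2 | h2
                · exact Or.inl ((hs _ h2).trans (by norm_num))
                · exact Or.inr (Or.inr (Or.inr (Or.inl ((hs _ h2).trans (by norm_num)))))
              · exact Or.inr (Or.inr (Or.inr (Or.inl ((hs _ h2).trans (by norm_num)))))
            · exact Or.inl (hs _ h2)
          · exact Or.inr (Or.inl (hs _ h2))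
        · exact Or.inr (Or.inr (Or.inl (hs _ h2)))
      · exact Or.inr (Or.inr (Or.inr (Or.inl (hs _ h2))))
    · exact Or.inr (Or.inr (Or.inr (Or.inr (hs _ h2))))
  | TE6 =>
    show o ∣ 8 ∨ o ∣ 12 ∨ o = 10 ∨ o = 18
    have ha : ∀ k : ℕ, 1 ≤ k → r ∣ q ^ k + 1 → o ∣ 2 * k ∧ (o = 1 ∨ ¬ o ∣ k) := by
      intro k hk h2
      have := ord_of_add hq hr hk h2
      rwa [ho] at this
    rcases hr.dvd_mul.1 hn with hn | h2
    · rcases hr.dvd_mul.1 hn with hn | h2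
      · rcases hr.dvd_mul.1 hn with hn | h2
        · rcases hr.dvd_mul.1 hn with hn | h2
          · rcases hr.dvd_mul.1 hn with h2 | h2
            · exact Or.inl ((hs _ h2).trans (by norm_num))
            · obtain ⟨h3, h4⟩ := ha 5 (by norm_num) h2
              have h5 := Nat.le_of_dvd (by norm_num) h3
              interval_cases o <;> omega
          · exact Or.inr (Or.inl ((hs _ h2).trans (by norm_num)))
        · exact Or.inl (hs _ h2)
      · obtain ⟨h3, h4⟩ := ha 9 (by norm_num) h2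
        have h5 := Nat.le_of_dvd (by norm_num) h3
        interval_cases o <;> (clear * - h3 h4; omega)
    · exact Or.inr (Or.inl (hs _ h2))
  | TD4 =>
    show o ∣ 6 ∨ o = 12
    rcases hr.dvd_mul.1 hn with hn | h2
    · rcases hr.dvd_mul.1 hn with h2 | h2
      · exact Or.inl ((hs _ h2).trans (by norm_num))
      · exact Or.inl (hs _ h2)
    · have h3 : o ∣ 12 := hs _ (h2.trans (dvd_twelve hq2))
      by_cases h4 : o ∣ 4
      · have h5 : r ∣ q ^ (4:ℕ) - 1 := by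
          rw [dvd_sub_iff hq, ho]; exact h4
        have h6 : r ∣ 3 := by
          have h7 : r ∣ (q ^ (4:ℕ) - 1) * (q ^ (4:ℕ) + 2) := h5.mul_right _
          have h8 : (q ^ (4:ℕ) - 1) * (q ^ (4:ℕ) + 2) + 3 = q ^ (8:ℕ) + q ^ (4:ℕ) + 1 := by
            have : 1 ≤ q ^ (4:ℕ) := Nat.one_le_pow _ _ hq
            zify [this]; ring
          rw [← h8] at h2
          exact (Nat.dvd_add_right h7).1 h2
        have h7 := (Nat.prime_dvd_prime_iff_eq hr Nat.prime_three).1 h6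
        subst h7
        have h8 := Cfsg.Agent.Lib.Zsigmondy.orderOf_dvd_pred hr hrq
        rw [ho] at h8
        exact Or.inl (h8.trans (by norm_num))
      · have h5 := Nat.le_of_dvd (by norm_num) h3
        interval_cases o <;> omega
  | Sz =>
    show o = 1 ∨ o = 4
    rcases hr.dvd_mul.1 hn with h2 | h2
    · exact Or.inl (Nat.dvd_one.1 (h1 h2))
    · have h3 := ord_of_add hq hr (by norm_num) h2
      rw [ho] at h3
      obtain ⟨h3, h4⟩ := h3
      have h5 := Nat.le_of_dvd (by norm_num) h3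
      interval_cases o <;> omega
  | Ree =>
    show o ∣ 2 ∨ o = 6
    rcases hr.dvd_mul.1 hn with h2 | h2
    · exact Or.inl ((h1 h2).trans (by norm_num))
    · have h3 := ord_of_add hq hr (by norm_num) h2
      rw [ho] at h3
      obtain ⟨h3, h4⟩ := h3
      have h5 := Nat.le_of_dvd (by norm_num) h3
      interval_cases o <;> omega
  | TF4 =>
    show o ∣ 4 ∨ o = 6 ∨ o = 12
    rcases hr.dvd_mul.1 hn with hn | h2
    · rcases hr.dvd_mul.1 hn with hn | h2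
      · rcases hr.dvd_mul.1 hn with h2 | h2
        · exact Or.inl ((h1 h2).trans (by norm_num))
        · have h3 := ord_of_add hq hr (by norm_num) h2
          rw [ho] at h3
          obtain ⟨h3, h4⟩ := h3
          have h5 := Nat.le_of_dvd (by norm_num) h3
          interval_cases o <;> omega
      · exact Or.inl (hs _ h2)
    · have h3 := ord_of_add hq hr (by norm_num) h2
      rw [ho] at h3
      obtain ⟨h3, h4⟩ := h3
      have h5 := Nat.le_of_dvd (by norm_num) h3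
      interval_cases o <;> omega

/-- **Converse**: a prime for which the order of `q` is at least three and in the list divides the group order. -/
theorem dvd_of_mem (h : Real X p f M) {r e : ℕ} (hr : r.Prime) (ho : orderOf ((p ^ f : ℕ) : ZMod r) = e)
    (h3 : 3 ≤ e) (hE : EX X e) : r ∣ M := by
  have hp := h.hp
  have hok := h.ok
  have hq2 := h.q_ge
  have main : ¬ r ∣ dd X (p ^ f) → r ∣ num X (p ^ f) → r ∣ M := fun h1 h2 => h.dvd_of_dvd_num hr h1 h2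
  generalize p ^ f = q at *
  have hq : 1 ≤ q := by omega
  have hrq : ¬ r ∣ q := by
    intro hd
    have : Fact r.Prime := ⟨hr⟩
    have h1 : ((q : ℕ) : ZMod r) = 0 := (ZMod.natCast_eq_zero_iff q r).2 hd
    rw [h1] at ho
    have h2 : orderOf (0 : ZMod r) = 0 := by
      rw [orderOf_eq_zero_iff']
      intro n hn h5
      rw [zero_pow (by omega)] at h5
      exact zero_ne_one h5
    omega
  have hpred := Cfsg.Agent.Lib.Zsigmondy.orderOf_dvd_pred hr hrq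
  rw [ho] at hpred
  have hr4 : 4 ≤ r := by
    have h5 := Nat.le_of_dvd (by have := hr.two_le; omega) hpred
    omega
  have hs : ∀ k : ℕ, e ∣ k → r ∣ q ^ k - 1 := fun k hk => (dvd_sub_iff hq k).2 (by rw [ho]; exact hk)
  have hn : ∀ k : ℕ, r ∣ q ^ k - 1 → e ∣ k := fun k hk => by rw [← ho]; exact (dvd_sub_iff hq k).1 hk
  have ha : ∀ k : ℕ, 1 ≤ k → e = 2 * k → r ∣ q ^ k + 1 := by
    intro k hk h1
    have h2 := hs (2 * k) (by rw [h1])
    have h4 : q ^ (2 * k) - 1 = (q ^ k - 1) * (q ^ k + 1) := by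
      have hk1 : 1 ≤ q ^ k := Nat.one_le_pow _ _ hq
      have h2 : 1 ≤ q ^ (2 * k) := Nat.one_le_pow _ _ hq
      zify [hk1, h2]; ring
    rw [h4, hr.dvd_mul] at h2
    rcases h2 with h2 | h2
    · have h5 := Nat.le_of_dvd (by omega) (hn _ h2)
      omega
    · exact h2
  have h2' : ¬ r ∣ 2 := fun hd => by have := Nat.le_of_dvd (by norm_num) hd; omega
  have h3' : ¬ r ∣ 3 := fun hd => by have := Nat.le_of_dvd (by norm_num) hd; omega
  have h4' : ¬ r ∣ 4 := fun hd => by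
    have h7 : r ∣ 2 ^ (2:ℕ) := hd
    exact h2' (hr.dvd_of_dvd_pow h7)
  have h11 : ¬ r ∣ 1 := fun hd => hr.one_lt.ne' (Nat.dvd_one.1 hd)
  have hprod : ∀ (n i : ℕ) (g : ℕ → ℕ), i < n → r ∣ g i → r ∣ ∏ i ∈ range n, g i := by
    intro n i g hi hg
    exact hg.trans (Finset.dvd_prod_of_mem g (mem_range.2 hi))
  apply main
  · intro hd
    cases X with
    | L n =>
      have h5 : r ∣ q ^ (1:ℕ) - 1 := by rw [pow_one]; exact hd.trans (Nat.gcd_dvd_right _ _)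
      have := Nat.le_of_dvd (by norm_num) (hn _ h5)
      omega
    | C m => exact h2' (hd.trans (Nat.gcd_dvd_left _ _))
    | U n =>
      have h5 : r ∣ q + 1 := hd.trans (Nat.gcd_dvd_right _ _)
      have h6 : r ∣ q ^ (2:ℕ) - 1 := by
        refine h5.trans ⟨q - 1, ?_⟩
        have h2 : 1 ≤ q ^ (2:ℕ) := Nat.one_le_pow _ _ hq
        zify [hq, h2]; ring
      have := Nat.le_of_dvd (by norm_num) (hn _ h6)
      omega
    | D m => exact h4' (hd.trans (Nat.gcd_dvd_left _ _))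
    | DD m => exact h4' (hd.trans (Nat.gcd_dvd_left _ _))
    | G2 => exact h11 hd
    | F4 => exact h11 hd
    | E6 => exact h3' (hd.trans (Nat.gcd_dvd_left _ _))
    | E7 => exact h2' (hd.trans (Nat.gcd_dvd_left _ _))
    | E8 => exact h11 hd
    | TE6 => exact h3' (hd.trans (Nat.gcd_dvd_left _ _))
    | TD4 => exact h11 hd
    | Sz => exact h11 hd
    | Ree => exact h11 hd
    | TF4 => exact h11 hd
  · cases X with
    | L n =>
      have hE' : e ≤ n := hE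
      refine hprod (n - 1) (e - 2) _ (by omega) ?_
      exact hs _ (by rw [show e - 2 + 2 = e by omega])
    | C m =>
      have hE' : (e % 2 = 0 ∧ e ≤ 2 * m) ∨ e ≤ m := hE
      rcases hE' with ⟨h5, h6⟩ | h5
      · exact hprod m (e / 2 - 1) _ (by omega) (hs _ (by rw [show 2 * (e / 2 - 1 + 1) = e by omega]))
      · exact hprod m (e - 1) _ (by omega) (hs _ (by rw [show 2 * (e - 1 + 1) = e * 2 by omega]; exact dvd_mul_right _ _))
    | U n =>
      have hE' : (e % 4 = 0 ∧ e ≤ n) ∨ (e % 4 = 2 ∧ e ≤ 2 * n) ∨ 2 * e ≤ n := hE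
      rcases hE' with ⟨h5, h6⟩ | ⟨h5, h6⟩ | h5
      · refine hprod (n - 1) (e - 2) _ (by omega) ?_
        show r ∣ if Even (e - 2) then q ^ (e - 2 + 2) - 1 else q ^ (e - 2 + 2) + 1
        rw [if_pos (Nat.even_iff.2 (by omega))]
        exact hs _ (by rw [show e - 2 + 2 = e by omega])
      · refine hprod (n - 1) (e / 2 - 2) _ (by (clear * - h3 h6; omega)) ?_
        show r ∣ if Even (e / 2 - 2) then q ^ (e / 2 - 2 + 2) - 1 else q ^ (e / 2 - 2 + 2) + 1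
        rw [if_neg (fun h7 => by have := Nat.even_iff.1 h7; (clear * - h3 h5 this; omega))]
        exact ha _ (by omega) (by (clear * - h3 h5; omega))
      · refine hprod (n - 1) (2 * e - 2) _ (by omega) ?_
        show r ∣ if Even (2 * e - 2) then q ^ (2 * e - 2 + 2) - 1 else q ^ (2 * e - 2 + 2) + 1
        rw [if_pos (Nat.even_iff.2 (by omega))]
        exact hs _ (by rw [show 2 * e - 2 + 2 = e * 2 by omega]; exact dvd_mul_right _ _)
    | D m =>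
      have hm : 4 ≤ m := hok
      have hE' : (e % 2 = 0 ∧ e ≤ 2 * (m - 1)) ∨ e ≤ m := hE
      show r ∣ (q ^ m - 1) * ∏ i ∈ range (m - 1), (q ^ (2 * (i + 1)) - 1)
      by_cases hem : e = m
      · exact (hs _ (by rw [hem])).mul_right _
      · refine Dvd.dvd.mul_left ?_ _
        rcases hE' with ⟨h5, h6⟩ | h5
        · exact hprod (m - 1) (e / 2 - 1) _ (by omega) (hs _ (by rw [show 2 * (e / 2 - 1 + 1) = e by omega]))
        · exact hprod (m - 1) (e - 1) _ (by omega)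
            (hs _ (by rw [show 2 * (e - 1 + 1) = e * 2 by omega]; exact dvd_mul_right _ _))
    | DD m =>
      have hm : 4 ≤ m := hok
      have hE' : (e % 2 = 0 ∧ e ≤ 2 * m) ∨ e ≤ m - 1 := hE
      show r ∣ (q ^ m + 1) * ∏ i ∈ range (m - 1), (q ^ (2 * (i + 1)) - 1)
      by_cases hem : e = 2 * m
      · exact (ha _ (by omega) hem).mul_right _
      · refine Dvd.dvd.mul_left ?_ _
        rcases hE' with ⟨h5, h6⟩ | h5
        · exact hprod (m - 1) (e / 2 - 1) _ (by (clear * - hm hem h6; omega)) (hs _ (by rw [show 2 * (e / 2 - 1 + 1) = e by omega]))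
        · exact hprod (m - 1) (e - 1) _ (by omega)
            (hs _ (by rw [show 2 * (e - 1 + 1) = e * 2 by omega]; exact dvd_mul_right _ _))
    | G2 => exact (hs _ hE).mul_left _
    | F4 =>
      rcases hE with h5 | h5
      · exact ((hs _ h5).mul_left _).mul_right _
      · exact (hs _ h5).mul_left _
    | E6 =>
      rcases hE with h5 | h5 | h5 | h5
      · exact (((((hs _ h5).mul_left _).mul_right _).mul_right _).mul_right _).mul_right _
      · exact (((hs _ h5).mul_left _).mul_right _).mul_right _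
      · exact ((hs _ h5).mul_left _).mul_right _
      · exact (hs _ h5).mul_left _
    | E7 =>
      rcases hE with h5 | h5 | h5 | h5 | h5
      · exact (((((hs _ h5).mul_left _).mul_right _).mul_right _).mul_right _).mul_right _
      · exact ((((hs _ h5).mul_left _).mul_right _).mul_right _).mul_right _
      · exact (((hs _ h5).mul_left _).mul_right _).mul_right _
      · exact ((hs _ h5).mul_left _).mul_right _
      · exact (hs _ h5).mul_left _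
    | E8 =>
      rcases hE with h5 | h5 | h5 | h5 | h5
      · exact (((((hs _ h5).mul_left _).mul_right _).mul_right _).mul_right _).mul_right _
      · exact ((((hs _ h5).mul_left _).mul_right _).mul_right _).mul_right _
      · exact (((hs _ h5).mul_left _).mul_right _).mul_right _
      · exact ((hs _ h5).mul_left _).mul_right _
      · exact (hs _ h5).mul_left _
    | TE6 =>
      rcases hE with h5 | h5 | h5 | h5
      · exact (((hs _ h5).mul_left _).mul_right _).mul_right _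
      · exact (hs _ h5).mul_left _
      · exact (((((ha 5 (by norm_num) h5).mul_left _).mul_right _).mul_right _).mul_right _).mul_right _
      · exact ((ha 9 (by norm_num) h5).mul_left _).mul_right _
    | TD4 =>
      rcases hE with h5 | h5
      · exact ((hs _ h5).mul_left _).mul_right _
      · have h1 := hs 12 (by rw [h5])
        have h2 : q ^ (12:ℕ) - 1 = (q ^ (4:ℕ) - 1) * (q ^ (8:ℕ) + q ^ (4:ℕ) + 1) := by
          have g1 : 1 ≤ q ^ (4:ℕ) := Nat.one_le_pow _ _ hq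
          have g2 : 1 ≤ q ^ (12:ℕ) := Nat.one_le_pow _ _ hq
          zify [g1, g2]; ring
        rw [h2, hr.dvd_mul] at h1
        rcases h1 with h1 | h1
        · have := Nat.le_of_dvd (by norm_num) (hn _ h1)
          omega
        · exact h1.mul_left _
    | Sz =>
      rcases hE with h5 | h5
      · omega
      · exact (ha 2 (by norm_num) h5).mul_left _
    | Ree =>
      rcases hE with h5 | h5
      · have := Nat.le_of_dvd (by norm_num) h5
        omega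
      · exact (ha 3 (by norm_num) h5).mul_left _
    | TF4 =>
      rcases hE with h5 | h5 | h5
      · exact ((hs _ h5).mul_left _).mul_right _
      · exact (((ha 3 (by norm_num) h5).mul_left _).mul_right _).mul_right _
      · exact (ha 6 (by norm_num) h5).mul_left _

end

end Cfsg.Agent.H365.Near
end

-- part: H365/NearPair
section
/-!
# Two orders of groups of Lie type in the same characteristic, one dividing the other
-/

set_option autoImplicit false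

namespace Cfsg.Agent.H365.Near

open Finset Cfsg.Agent.H902.Art Cfsg.Agent.Lib.Zsigmondy

section

variable {X Y : Sh} {p g f M' M : ℕ}

theorem order_pow {p g r : ℕ} (hg : 1 ≤ g) : orderOf ((p ^ g : ℕ) : ZMod r) =
    orderOf (p : ZMod r) / Nat.gcd (orderOf (p : ZMod r)) g := by
  rw [Nat.cast_pow, orderOf_pow' _ (by omega)]

/-- **Transfer of primitive prime divisors.** -/
theorem transfer (hX : Real X p g M') (hY : Real Y p f M) (hdvd : M' ∣ M) {n : ℕ} (hn : 3 ≤ n)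
    (h6 : ¬ (p = 2 ∧ n = 6)) (he : 3 ≤ n / Nat.gcd n g) (hE : EX X (n / Nat.gcd n g)) : EX Y (n / Nat.gcd n f) := by
  obtain ⟨r, hr, ho⟩ := exists_prime_orderOf hX.hp.two_le (show 2 ≤ n by omega) (fun h => by omega) h6
  have hrp : r ≠ p := ne_of_order hr (show 1 ≤ n by omega) ho
  have h1 : orderOf ((p ^ g : ℕ) : ZMod r) = n / Nat.gcd n g := by rw [order_pow hX.hf, ho]
  have h2 : r ∣ M' := dvd_of_mem hX hr h1 he hE
  have h3 := ord_mem hY hr hrp (h2.trans hdvd)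
  rwa [order_pow hY.hf, ho] at h3

theorem crit (hX : Real X p g M') (hY : Real Y p f M) (hdvd : M' ∣ M) (hD : g * DM X = f * DM Y) {e : ℕ}
    (h3 : 3 ≤ e) (hE : EX X e) (h6 : ¬ (p = 2 ∧ g * e = 6)) : EX Y (DM Y * e / Nat.gcd (DM Y * e) (DM X)) := by
  have hg := hX.hf
  have hf := hY.hf
  have hDX := (DM_ge hX).1
  have hn : 3 ≤ g * e := by nlinarith only [h3, hg]
  have h1 : g * e / Nat.gcd (g * e) g = e := by
    rw [Nat.gcd_comm, Nat.gcd_eq_left (dvd_mul_right g e)]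
    exact Nat.mul_div_cancel_left e (by omega)
  have h2 := transfer hX hY hdvd hn h6 (by rw [h1]; exact h3) (by rw [h1]; exact hE)
  have h4 : g * e / Nat.gcd (g * e) f = DM Y * e / Nat.gcd (DM Y * e) (DM X) := by
    have h5 : g * e / Nat.gcd (g * e) f = (g * e * DM X) / (Nat.gcd (g * e) f * DM X) :=
      (Nat.mul_div_mul_right _ _ (by omega)).symm
    have h7 : g * e * DM X = f * (DM Y * e) := by
      calc g * e * DM X = (g * DM X) * e := by ring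
        _ = f * DM Y * e := by rw [hD]
        _ = f * (DM Y * e) := by ring
    have h8 : Nat.gcd (g * e) f * DM X = f * Nat.gcd (DM Y * e) (DM X) := by
      rw [← Nat.gcd_mul_right, h7, ← Nat.gcd_mul_left]
    rw [h5, h7, h8]
    exact Nat.mul_div_mul_left _ _ (by omega)
  rwa [h4] at h2

/-- the decidable criterion that excludes a pair of concrete shapes -/
def KK (X Y : Sh) : Prop := ∃ e ∈ Finset.range 31, 3 ≤ e ∧ EX X e ∧
  ¬ EX Y (DM Y * e / Nat.gcd (DM Y * e) (DM X)) ∧ (e = 3 → 3 ≤ DM Y / Nat.gcd (DM X) (DM Y)) ∧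
  (e = 6 → 2 ≤ DM Y / Nat.gcd (DM X) (DM Y))

instance (X Y : Sh) : Decidable (KK X Y) := by unfold KK; infer_instance

theorem KK_false (hX : Real X p g M') (hY : Real Y p f M) (hdvd : M' ∣ M) (hD : g * DM X = f * DM Y)
    (h : KK X Y) : False := by
  obtain ⟨e, -, h3, hE, hn, h4, h5⟩ := h
  apply hn
  refine crit hX hY hdvd hD h3 hE ?_
  rintro ⟨-, h6⟩
  have hg := hX.hf
  have hDX := (DM_ge hX).1
  have hb : DM Y / Nat.gcd (DM X) (DM Y) ∣ g := by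
    have hc : 0 < Nat.gcd (DM X) (DM Y) := Nat.gcd_pos_of_pos_left _ (by omega)
    have hcop := Nat.coprime_div_gcd_div_gcd hc
    apply hcop.symm.dvd_of_dvd_mul_right
    refine ⟨f, ?_⟩
    obtain ⟨a, ha⟩ := Nat.gcd_dvd_left (DM X) (DM Y)
    obtain ⟨b, hb⟩ := Nat.gcd_dvd_right (DM X) (DM Y)
    have ha' : DM X / Nat.gcd (DM X) (DM Y) = a := Nat.div_eq_of_eq_mul_right hc ha
    have hb' : DM Y / Nat.gcd (DM X) (DM Y) = b := Nat.div_eq_of_eq_mul_right hc hb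
    rw [ha', hb']
    apply Nat.eq_of_mul_eq_mul_left hc
    calc Nat.gcd (DM X) (DM Y) * (g * a) = g * (Nat.gcd (DM X) (DM Y) * a) := by ring
      _ = g * DM X := by rw [← ha]
      _ = f * DM Y := hD
      _ = f * (Nat.gcd (DM X) (DM Y) * b) := by rw [← hb]
      _ = Nat.gcd (DM X) (DM Y) * (b * f) := by ring
  have hle := Nat.le_of_dvd (by omega) hb
  have he6 : e ∣ 6 := ⟨g, by rw [← h6]; ring⟩
  have he7 := Nat.le_of_dvd (by norm_num) he6
  interval_cases e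
  · have := h4 rfl; omega
  · omega
  · omega
  · have := h5 rfl; omega

/-- the possible shapes for a given value of `kap` -/
theorem fam (h : Real X p g M') : X = .L (kap X / 2 + 1) ∨ X = .C (kap X / 2) ∨ X = .U (kap X) ∨
    X = .U (kap X + 1) ∨ X = .D (kap X / 2) ∨ X = .DD (kap X / 2 + 1) ∨ X = .G2 ∨ X = .F4 ∨ X = .E6 ∨ X = .E7 ∨
    X = .E8 ∨ X = .TE6 ∨ X = .TD4 ∨ X = .Sz ∨ X = .Ree ∨ X = .TF4 := by
  have hok := h.ok
  cases X with
  | L n =>
    have hn : 2 ≤ n := hok.1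
    left; congr 1; show n = 2 * (n - 1) / 2 + 1; omega
  | C n => right; left; congr 1; show n = 2 * n / 2; omega
  | U n =>
    have hn : 3 ≤ n := hok.1
    have hK : kap (.U n) = if Even n then n else n - 1 := rfl
    by_cases he : Even n
    · rw [if_pos he] at hK
      right; right; left; rw [hK]
    · rw [if_neg he] at hK
      right; right; right; left; congr 1; omega
  | D n => right; right; right; right; left; congr 1; show n = 2 * n / 2; omega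
  | DD n =>
    have hn : 4 ≤ n := hok
    right; right; right; right; right; left; congr 1; show n = 2 * (n - 1) / 2 + 1; omega
  | G2 => simp
  | F4 => simp
  | E6 => simp
  | E7 => simp
  | E8 => simp
  | TE6 => simp
  | TD4 => simp
  | Sz => simp
  | Ree => simp
  | TF4 => simp

theorem EX_le (h : Real X p g M') (hA : DM X < 2 * BM X) {e : ℕ} (hE : EX X e) : e = DM X ∨ e ≤ BM X := by
  have hok := h.ok
  cases X with
  | L n => 
    have hE' : e ≤ n := hE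
    show e = n ∨ e ≤ n - 1
    omega
  | C n =>
    have hn : 2 ≤ n := hok.1
    have hE' : (e % 2 = 0 ∧ e ≤ 2 * n) ∨ e ≤ n := hE
    show e = 2 * n ∨ e ≤ 2 * (n - 1)
    omega
  | U n =>
    have hn : 3 ≤ n := hok.1
    have hE' : (e % 4 = 0 ∧ e ≤ n) ∨ (e % 4 = 2 ∧ e ≤ 2 * n) ∨ 2 * e ≤ n := hE
    have hDM : DM (.U n) = if Even n then 2 * (n - 1) else 2 * n := rfl
    have hBM : BM (.U n) = if Even n then (if n = 4 then 4 else 2 * (n - 3)) else 2 * (n - 2) := rfl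
    rw [hDM, hBM]
    by_cases he : Even n
    · rw [if_pos he, if_pos he]
      have h2 := Nat.even_iff.1 he
      split_ifs with h4 <;> omega
    · rw [if_neg he, if_neg he]
      have h2 := Nat.odd_iff.1 (Nat.not_even_iff_odd.1 he)
      omega
  | D n =>
    have hn : 4 ≤ n := hok
    have hE' : (e % 2 = 0 ∧ e ≤ 2 * (n - 1)) ∨ e ≤ n := hE
    show e = 2 * (n - 1) ∨ e ≤ 2 * (n - 2)
    omega
  | DD n =>
    have hn : 4 ≤ n := hok
    have hE' : (e % 2 = 0 ∧ e ≤ 2 * n) ∨ e ≤ n - 1 := hE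
    show e = 2 * n ∨ e ≤ 2 * (n - 1)
    omega
  | F4 =>
    have hE' : e ∣ 8 ∨ e ∣ 12 := hE
    show e = 12 ∨ e ≤ 8
    have h1 : e ≤ 12 := by
      rcases hE' with h | h <;> have := Nat.le_of_dvd (by norm_num) h <;> omega
    interval_cases e <;> omega
  | E6 =>
    have hE' : e ∣ 5 ∨ e ∣ 8 ∨ e ∣ 9 ∨ e ∣ 12 := hE
    show e = 12 ∨ e ≤ 9
    have h1 : e ≤ 12 := by
      rcases hE' with h | h | h | h <;> have := Nat.le_of_dvd (by norm_num) h <;> omega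
    interval_cases e <;> omega
  | E7 =>
    have hE' : e ∣ 8 ∨ e ∣ 10 ∨ e ∣ 12 ∨ e ∣ 14 ∨ e ∣ 18 := hE
    show e = 18 ∨ e ≤ 14
    have h1 : e ≤ 18 := by
      rcases hE' with h | h | h | h | h <;> have := Nat.le_of_dvd (by norm_num) h <;> omega
    interval_cases e <;> omega
  | E8 =>
    have hE' : e ∣ 14 ∨ e ∣ 18 ∨ e ∣ 20 ∨ e ∣ 24 ∨ e ∣ 30 := hE
    show e = 30 ∨ e ≤ 24
    have h1 : e ≤ 30 := by
      rcases hE' with h | h | h | h | h <;> have := Nat.le_of_dvd (by norm_num) h <;> omega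
    interval_cases e <;> (clear * - hE'; omega)
  | TE6 =>
    have hE' : e ∣ 8 ∨ e ∣ 12 ∨ e = 10 ∨ e = 18 := hE
    show e = 18 ∨ e ≤ 12
    rcases hE' with h | h | h | h
    · have := Nat.le_of_dvd (by norm_num) h; omega
    · have := Nat.le_of_dvd (by norm_num) h; omega
    · omega
    · omega
  | G2 => exact absurd hA (by decide)
  | TD4 => exact absurd hA (by decide)
  | Sz => exact absurd hA (by decide)
  | Ree => exact absurd hA (by decide)
  | TF4 => exact absurd hA (by decide)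

theorem EX_BM (h : Real X p g M') (hA : DM X < 2 * BM X) : EX X (BM X) := by
  have hok := h.ok
  cases X with
  | L n => show n - 1 ≤ n; omega
  | C n =>
    have hn : 2 ≤ n := hok.1
    show (2 * (n - 1) % 2 = 0 ∧ 2 * (n - 1) ≤ 2 * n) ∨ 2 * (n - 1) ≤ n
    omega
  | U n =>
    have hn : 3 ≤ n := hok.1
    have hBM : BM (.U n) = if Even n then (if n = 4 then 4 else 2 * (n - 3)) else 2 * (n - 2) := rfl
    rw [hBM]
    by_cases he : Even n
    · rw [if_pos he]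
      have h2 := Nat.even_iff.1 he
      split_ifs with h4
      · subst h4; decide
      · show (2 * (n - 3) % 4 = 0 ∧ 2 * (n - 3) ≤ n) ∨ (2 * (n - 3) % 4 = 2 ∧ 2 * (n - 3) ≤ 2 * n) ∨
          2 * (2 * (n - 3)) ≤ n
        omega
    · rw [if_neg he]
      have h2 := Nat.odd_iff.1 (Nat.not_even_iff_odd.1 he)
      show (2 * (n - 2) % 4 = 0 ∧ 2 * (n - 2) ≤ n) ∨ (2 * (n - 2) % 4 = 2 ∧ 2 * (n - 2) ≤ 2 * n) ∨
        2 * (2 * (n - 2)) ≤ n
      omega
  | D n =>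
    have hn : 4 ≤ n := hok
    show (2 * (n - 2) % 2 = 0 ∧ 2 * (n - 2) ≤ 2 * (n - 1)) ∨ 2 * (n - 2) ≤ n
    omega
  | DD n => show (2 * (n - 1) % 2 = 0 ∧ 2 * (n - 1) ≤ 2 * n) ∨ 2 * (n - 1) ≤ n - 1; omega
  | F4 => decide
  | E6 => decide
  | E7 => decide
  | E8 => decide
  | TE6 => decide
  | G2 => exact absurd hA (by decide)
  | TD4 => exact absurd hA (by decide)
  | Sz => exact absurd hA (by decide)
  | Ree => exact absurd hA (by decide)
  | TF4 => exact absurd hA (by decide)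

/-- the main numerical consequence -/
theorem ratio (hX : Real X p g M') (hY : Real Y p f M) (hdvd : M' ∣ M) (hD : g * DM X = f * DM Y)
    (hA : DM X < 2 * BM X) (hA' : DM Y < 2 * BM Y) (h3 : 3 ≤ BM X) (h6 : ¬ (p = 2 ∧ g * BM X = 6)) :
    ∃ w, DM Y - BM Y ≤ w ∧ w * DM X = DM Y * (DM X - BM X) := by
  have h1 := crit hX hY hdvd hD h3 (EX_BM hX hA) h6
  have hDX := (DM_ge hX).1
  have hDY := (DM_ge hY).1
  have hBX := BM_lt hX
  have hBY := BM_lt hY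
  set c := Nat.gcd (DM Y * BM X) (DM X) with hc
  have hcX : c ∣ DM X := Nat.gcd_dvd_right _ _
  have hcY : c ∣ DM Y * BM X := Nat.gcd_dvd_left _ _
  have hc0 : 0 < c := Nat.gcd_pos_of_pos_right _ (by omega)
  obtain ⟨T, hT⟩ := hcY
  have hT' : DM Y * BM X / c = T := Nat.div_eq_of_eq_mul_right hc0 hT
  rw [hT'] at h1
  have h2 := EX_le hY hA' h1
  have h4 : T ≤ DM Y := by omega
  have h5 : BM X ≤ c := by
    have h7 : DM Y * BM X ≤ DM Y * c := by
      rw [hT, mul_comm]; exact Nat.mul_le_mul_right _ h4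
    exact Nat.le_of_mul_le_mul_left h7 (by omega)
  have h8 : c = DM X := by
    obtain ⟨a, ha⟩ := hcX
    have h9 : a < 2 := by
      by_contra h10
      have h11 : c * 2 ≤ c * a := Nat.mul_le_mul_left _ (by omega)
      omega
    have h12 : a ≠ 0 := by rintro rfl; omega
    have h13 : a = 1 := by omega
    rw [h13] at ha; omega
  rw [h8] at hT
  have hTne : T ≠ DM Y := by
    intro h9
    rw [h9, mul_comm] at hT
    have := Nat.eq_of_mul_eq_mul_right (by omega) hT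
    omega
  refine ⟨DM Y - T, by omega, ?_⟩
  have h10 : DM X * T ≤ DM X * DM Y := Nat.mul_le_mul_left _ h4
  rw [Nat.sub_mul, Nat.mul_sub, hT, mul_comm T]

end

/-- the pairs (besides `L`/`DD`) that pass the numerical test -/
def lst : List (Sh × Sh) :=
  [(.L 3, .U 4), (.U 4, .L 3), (.D 4, .U 9), (.D 4, .F4), (.D 4, .TE6), (.D 5, .DD 6), (.D 7, .U 15), (.F4, .U 9),
   (.F4, .D 4), (.F4, .TE6), (.E6, .C 6), (.E8, .U 16), (.TE6, .U 9), (.TE6, .D 4), (.TE6, .F4)]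

private def sh (i j : ℕ) : Sh :=
  match i with
  | 0 => .L (j + 1) | 1 => .C j | 2 => .U (2 * j) | 3 => .U (2 * j + 1) | 4 => .D j | 5 => .DD (j + 1)
  | 6 => .U 4 | 7 => .F4 | 8 => .E6 | 9 => .E7 | 10 => .E8 | _ => .TE6

private def bD (i j : ℕ) : ℕ :=
  match i with
  | 0 => j + 1 | 1 => 2 * j | 2 => 4 * j - 2 | 3 => 4 * j + 2 | 4 => 2 * j - 2 | 5 => 2 * (j + 1)
  | 6 => 6 | 7 => 12 | 8 => 12 | 9 => 18 | 10 => 30 | _ => 18

private def sd (i : ℕ) : ℕ :=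
  match i with
  | 0 => 1 | 1 => 2 | 2 => 4 | 3 => 4 | 4 => 2 | 5 => 2 | 6 => 2 | 7 => 4 | 8 => 3 | 9 => 4 | 10 => 6 | _ => 6

private def ok (i j : ℕ) : Bool :=
  match i with
  | 0 => Nat.ble 2 j | 1 => Nat.ble 3 j | 2 => Nat.ble 3 j | 3 => Nat.ble 2 j | 4 => Nat.ble 4 j | 5 => Nat.ble 3 j
  | 6 => Nat.beq j 2 | 7 => Nat.beq j 4 | 8 => Nat.beq j 6 | 9 => Nat.beq j 7 | 10 => Nat.beq j 8 | _ => Nat.beq j 4

private theorem typA_code {X : Sh} {D d k : ℕ} (h : TypA X D d k) :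
    ∃ i j, i < 12 ∧ k = 2 * j ∧ ok i j = true ∧ (i < 6 ∨ j < 10) ∧ X = sh i j ∧ D = bD i j ∧ d = sd i := by
  cases h with
  | L n h =>
    obtain ⟨j, rfl⟩ : ∃ j, D = j + 1 := ⟨D - 1, by omega⟩
    exact ⟨0, j, by decide, rfl, Nat.ble_eq_true_of_le (Nat.le_of_succ_le_succ h), Or.inl (by decide), rfl, rfl, rfl⟩
  | C n h => exact ⟨1, n, by decide, rfl, Nat.ble_eq_true_of_le h, Or.inl (by decide), rfl, rfl, rfl⟩
  | U4 => exact ⟨6, 2, by decide, rfl, rfl, Or.inr (by decide), rfl, rfl, rfl⟩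
  | Ue n h => exact ⟨2, n, by decide, rfl, Nat.ble_eq_true_of_le h, Or.inl (by decide), rfl, rfl, rfl⟩
  | Uo n h => exact ⟨3, n, by decide, rfl, Nat.ble_eq_true_of_le h, Or.inl (by decide), rfl, rfl, rfl⟩
  | D n h => exact ⟨4, n, by decide, rfl, Nat.ble_eq_true_of_le h, Or.inl (by decide), rfl, rfl, rfl⟩
  | DD n h =>
    obtain ⟨j, rfl⟩ : ∃ j, n = j + 1 := ⟨n - 1, by omega⟩
    exact ⟨5, j, by decide, rfl, Nat.ble_eq_true_of_le (Nat.le_of_succ_le_succ h), Or.inl (by decide), rfl, rfl, rfl⟩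
  | F4 => exact ⟨7, 4, by decide, rfl, rfl, Or.inr (by decide), rfl, rfl, rfl⟩
  | E6 => exact ⟨8, 6, by decide, rfl, rfl, Or.inr (by decide), rfl, rfl, rfl⟩
  | E7 => exact ⟨9, 7, by decide, rfl, rfl, Or.inr (by decide), rfl, rfl, rfl⟩
  | E8 => exact ⟨10, 8, by decide, rfl, rfl, Or.inr (by decide), rfl, rfl, rfl⟩
  | TE6 => exact ⟨11, 4, by decide, rfl, rfl, Or.inr (by decide), rfl, rfl, rfl⟩

private theorem small0 : ((List.range 10).all fun j => (List.range 12).all fun i => !ok i j ||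
    (List.range 12).all fun i' => !ok i' j || (!Nat.beq ((bD i' j * sd i) % bD i j) 0 ||
    (!Nat.ble (sd i' * bD i j) (bD i' j * sd i) ||
    decide (i = i' ∨ (i = 0 ∧ i' = 5) ∨ (i = 5 ∧ i' = 0) ∨ (sh i j, sh i' j) ∈ lst)))) = true := by decide +kernel

private theorem small {j i i' : ℕ} (hj : j < 10) (hi : i < 12) (h1 : ok i j = true) (hi' : i' < 12) (h2 : ok i' j = true)
    (h3 : (bD i' j * sd i) % bD i j = 0) (h4 : sd i' * bD i j ≤ bD i' j * sd i) :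
    i = i' ∨ (i = 0 ∧ i' = 5) ∨ (i = 5 ∧ i' = 0) ∨ (sh i j, sh i' j) ∈ lst := by
  have h := List.all_eq_true.1 (List.all_eq_true.1 small0 j (List.mem_range.2 hj)) i (List.mem_range.2 hi)
  rw [h1, Bool.not_true, Bool.false_or] at h
  have h5 := List.all_eq_true.1 h i' (List.mem_range.2 hi')
  rw [h2, h3, Nat.ble_eq_true_of_le h4] at h5
  exact of_decide_eq_true h5

private theorem large {j : ℕ} (hj : 10 ≤ j) {i i' : ℕ} (hi : i < 6) (hi' : i' < 6)
    (h : sd i' * bD i j = bD i' j * sd i ∨ (sd i' + 1) * bD i j ≤ bD i' j * sd i) :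
    i = i' ∨ (i = 0 ∧ i' = 5) ∨ (i = 5 ∧ i' = 0) := by
  interval_cases i <;> interval_cases i' <;>
    first
      | decide
      | (simp only [sd, bD] at h; (solve | lia | omega))

theorem pairsN {X Y : Sh} {D d k D' d' k' w : ℕ} (hX : TypA X D d k) (hY : TypA Y D' d' k') (hk : k = k')
    (hw : d' ≤ w) (hD : w * D = D' * d) :
    X = Y ∨ (∃ n, X = .L n ∧ Y = .DD n) ∨ (∃ n, X = .DD n ∧ Y = .L n) ∨ (X, Y) ∈ lst := by
  obtain ⟨i, j, hi, h1, h2, h3, rfl, rfl, rfl⟩ := typA_code hX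
  obtain ⟨i', j', hi', h4, h5, h6, rfl, rfl, rfl⟩ := typA_code hY
  obtain rfl : j = j' := by omega
  have h7 : i = i' ∨ (i = 0 ∧ i' = 5) ∨ (i = 5 ∧ i' = 0) ∨ (sh i j, sh i' j) ∈ lst := by
    by_cases hj : j < 10
    · exact small hj hi h2 hi' h5 (hD ▸ Nat.mul_mod_left _ _) (hD ▸ Nat.mul_le_mul_right _ hw)
    · rw [← or_assoc, ← or_assoc, or_assoc (a := i = i')]
      refine Or.inl (large (Nat.le_of_not_lt hj) (h3.resolve_right hj) (h6.resolve_right hj) ?_)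
      rw [← hD]
      exact hw.eq_or_lt.imp (fun h => by rw [h]) fun h => Nat.mul_le_mul_right _ h
  rcases h7 with rfl | ⟨rfl, rfl⟩ | ⟨rfl, rfl⟩ | h
  · exact Or.inl rfl
  · exact Or.inr (Or.inl ⟨_, rfl, rfl⟩)
  · exact Or.inr (Or.inr (Or.inl ⟨_, rfl, rfl⟩))
  · exact Or.inr (Or.inr (Or.inr h))

end Cfsg.Agent.H365.Near
end

-- part: H365/NearArith
section
/-!
# Elementary divisibilities between order polynomials
-/

set_option autoImplicit false

namespace Cfsg.Agent.H365.Near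

theorem cancel {C A B : ℤ} (hC : C ≠ 0) (h : C * A ∣ C * B) : A ∣ B := (mul_dvd_mul_iff_left hC).1 h

theorem reduce {A B : ℤ} (Q R : ℤ) (h : A ∣ B) (hB : B = A * Q + R) : A ∣ R := by
  have h2 := dvd_sub h (dvd_mul_right A Q)
  rwa [hB, add_sub_cancel_left] at h2

theorem tooBig {A B : ℤ} (h : A ∣ B) (hB : 0 < B) (hlt : B < A) : False := by
  have := Int.le_of_dvd hB h
  omega

/-- powers of an integer at least two -/
theorem pw {t : ℤ} (ht : 2 ≤ t) (k : ℕ) : (2 : ℤ) ^ k ≤ t ^ k := pow_le_pow_left₀ (by norm_num) ht k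

theorem pw1 {t : ℤ} (ht : 2 ≤ t) {k : ℕ} (hk : k ≠ 0) : 1 < t ^ k := one_lt_pow₀ (by omega) hk

theorem pwm {t : ℤ} (ht : 2 ≤ t) {i j : ℕ} (h : i ≤ j) : t ^ i ≤ t ^ j := pow_le_pow_right₀ (by omega) h

section

variable {t a b : ℤ}

theorem s_L2U3 (ht : 2 ≤ t) (ha : 1 ≤ a) (hb : 1 ≤ b) (hb2 : b ≤ 2)
    (h : a * ((t ^ (3:ℕ)) ^ (2:ℕ) - 1) ∣ b * ((t ^ (2:ℕ) - 1) * (t ^ (3:ℕ) + 1))) : False := by
  have h3 := pw1 ht (k := 3) (by norm_num)
  have h1 : a * (t ^ (3:ℕ) - 1) ∣ b * (t ^ (2:ℕ) - 1) := by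
    apply cancel (C := t ^ (3:ℕ) + 1) (by omega)
    convert h using 1 <;> ring
  have h2 : t ^ (3:ℕ) - 1 ∣ b * (t ^ (2:ℕ) - 1) := (dvd_mul_left _ _).trans h1
  have h4 := pw1 ht (k := 2) (by norm_num)
  refine tooBig h2 (by nlinarith only [ht, hb, hb2]) ?_
  nlinarith only [ht, mul_le_mul_of_nonneg_right hb2 (show 0 ≤ t ^ (2:ℕ) - 1 by omega)]

theorem s_L2Sz (ht : 2 ≤ t) (ha : 1 ≤ a) (hb : 1 ≤ b) (hb2 : b ≤ 2)
    (h : a * ((t ^ (2:ℕ)) ^ (2:ℕ) - 1) ∣ b * ((t - 1) * (t ^ (2:ℕ) + 1))) : False := by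
  have h1 : a * (t + 1) ∣ b := by
    apply cancel (C := (t - 1) * (t ^ (2:ℕ) + 1)) (mul_ne_zero (by omega) (by positivity))
    convert h using 1 <;> ring
  exact tooBig ((dvd_mul_left _ _).trans h1) (by omega) (by omega)

theorem s_L2Ree (ht : 2 ≤ t) (ha : 1 ≤ a) (hb : 1 ≤ b) (hb2 : b ≤ 2)
    (h : a * ((t ^ (3:ℕ)) ^ (2:ℕ) - 1) ∣ b * ((t - 1) * (t ^ (3:ℕ) + 1))) : False := by
  have h3 := pw1 ht (k := 3) (by norm_num)
  have h1 : a * (t ^ (2:ℕ) + t + 1) ∣ b := by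
    apply cancel (C := (t - 1) * (t ^ (3:ℕ) + 1)) (mul_ne_zero (by omega) (by omega))
    convert h using 1 <;> ring
  exact tooBig ((dvd_mul_left _ _).trans h1) (by omega) (by linarith only [ht, hb2, _root_.sq_nonneg (t : ℤ)])

theorem s_U3L2 (ht : 3 ≤ t) (ha : 1 ≤ a) (hb : 1 ≤ b) (hb2 : b ≤ 3)
    (h : a * ((t ^ (2:ℕ) - 1) * (t ^ (3:ℕ) + 1)) ∣ b * ((t ^ (3:ℕ)) ^ (2:ℕ) - 1)) : False := by
  have h3 := pw1 (show 2 ≤ t by omega) (k := 3) (by norm_num)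
  have h1 : a * (t + 1) ∣ b * (t ^ (2:ℕ) + t + 1) := by
    apply cancel (C := (t - 1) * (t ^ (3:ℕ) + 1)) (mul_ne_zero (by omega) (by omega))
    convert h using 1 <;> ring
  have h2 : t + 1 ∣ b := reduce (b * t) b ((dvd_mul_left _ _).trans h1) (by ring)
  exact tooBig h2 (by omega) (by omega)

theorem s_U3Sz (ht : 2 ≤ t) (ha : 1 ≤ a)
    (h : a * (((t ^ (2:ℕ)) ^ (2:ℕ) - 1) * ((t ^ (2:ℕ)) ^ (3:ℕ) + 1)) ∣ 1 * ((t ^ (3:ℕ) - 1) * ((t ^ (3:ℕ)) ^ (2:ℕ) + 1))) : False := by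
  have h1 : a * (t ^ (4:ℕ) - 1) ∣ t ^ (3:ℕ) - 1 := by
    apply cancel (C := t ^ (6:ℕ) + 1) (by positivity)
    convert h using 1 <;> ring
  have h3 := pw1 ht (k := 3) (by norm_num)
  refine tooBig ((dvd_mul_left _ _).trans h1) (by omega) (by nlinarith only [ht, h3])

theorem s_U3Ree (ht : 3 ≤ t) (ha : 1 ≤ a) (hb : 1 ≤ b) (hb2 : b ≤ 3)
    (h : a * ((t ^ (2:ℕ) - 1) * (t ^ (3:ℕ) + 1)) ∣ b * ((t - 1) * (t ^ (3:ℕ) + 1))) : False := by
  have h3 := pw1 (show 2 ≤ t by omega) (k := 3) (by norm_num)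
  have h1 : a * (t + 1) ∣ b := by
    apply cancel (C := (t - 1) * (t ^ (3:ℕ) + 1)) (mul_ne_zero (by omega) (by omega))
    convert h using 1 <;> ring
  exact tooBig ((dvd_mul_left _ _).trans h1) (by omega) (by omega)

theorem s_SzU3 (ht : 2 ≤ t) (ha : 1 ≤ a)
    (h : a * ((t ^ (3:ℕ) - 1) * ((t ^ (3:ℕ)) ^ (2:ℕ) + 1)) ∣ 1 * (((t ^ (2:ℕ)) ^ (2:ℕ) - 1) * ((t ^ (2:ℕ)) ^ (3:ℕ) + 1))) : False := by
  have h1 : a * (t ^ (3:ℕ) - 1) ∣ t ^ (4:ℕ) - 1 := by
    apply cancel (C := t ^ (6:ℕ) + 1) (by positivity)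
    convert h using 1 <;> ring
  have h2 : t ^ (3:ℕ) - 1 ∣ t - 1 := reduce t (t - 1) ((dvd_mul_left _ _).trans h1) (by ring)
  refine tooBig h2 (by omega) (by nlinarith only [ht, pw1 ht (k := 2) (by norm_num)])

theorem s_ReeL2 (ht : 2 ≤ t) (hodd : t % 2 = 1)
    (h : 2 * ((t - 1) * (t ^ (3:ℕ) + 1)) ∣ 1 * ((t ^ (3:ℕ)) ^ (2:ℕ) - 1)) : False := by
  have h3 := pw1 ht (k := 3) (by norm_num)
  have h1 : 2 ∣ t ^ (2:ℕ) + t + 1 := by
    apply cancel (C := (t - 1) * (t ^ (3:ℕ) + 1)) (mul_ne_zero (by omega) (by omega))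
    convert h using 1 <;> ring
  have h2 : (t ^ (2:ℕ) + t + 1) % 2 = 0 := Int.emod_eq_zero_of_dvd h1
  rw [Int.add_emod, Int.add_emod (t ^ (2:ℕ)), pow_two, Int.mul_emod, hodd] at h2
  norm_num at h2

/-! ### the shapes with `kap = 4` -/

theorem s_L3C2 (ht : 2 ≤ t) (ha : 1 ≤ a) (hb : 1 ≤ b) (hb2 : b ≤ 3)
    (h : a * (((t ^ (4:ℕ)) ^ (2:ℕ) - 1) * ((t ^ (4:ℕ)) ^ (3:ℕ) - 1)) ∣ b * (((t ^ (3:ℕ)) ^ (2:ℕ) - 1) * ((t ^ (3:ℕ)) ^ (4:ℕ) - 1))) : False := by
  have h12 := pw1 ht (k := 12) (by norm_num)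
  have h6 := pw1 ht (k := 6) (by norm_num)
  have h1 : a * (t ^ (8:ℕ) - 1) ∣ b * (t ^ (6:ℕ) - 1) := by
    apply cancel (C := t ^ (12:ℕ) - 1) (by omega)
    convert h using 1 <;> ring
  refine tooBig ((dvd_mul_left _ _).trans h1) (by nlinarith only [hb, h6]) ?_
  have h2 : b * (t ^ (6:ℕ) - 1) ≤ 3 * (t ^ (6:ℕ) - 1) := mul_le_mul_of_nonneg_right hb2 (by omega)
  have h4 : 4 * t ^ (6:ℕ) ≤ t ^ (8:ℕ) := by
    have := pw ht 2
    have h5 : t ^ (8:ℕ) = t ^ (2:ℕ) * t ^ (6:ℕ) := by ring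
    nlinarith only [h6, this]
  omega

theorem s_L3U4 (ht : 2 ≤ t) (ha : 1 ≤ a) (hb : b = 1 ∨ b = 3)
    (h : a * (((t ^ (2:ℕ)) ^ (2:ℕ) - 1) * ((t ^ (2:ℕ)) ^ (3:ℕ) - 1)) ∣ b * ((t ^ (2:ℕ) - 1) * (t ^ (3:ℕ) + 1) * (t ^ (4:ℕ) - 1))) : False := by
  have h4 := pw1 ht (k := 4) (by norm_num)
  have h3 := pw1 ht (k := 3) (by norm_num)
  have h1 : a * (t ^ (2:ℕ) + t + 1) ∣ b * (t + 1) := by
    apply cancel (C := (t - 1) * (t ^ (3:ℕ) + 1) * (t ^ (4:ℕ) - 1)) (mul_ne_zero (mul_ne_zero (by omega) (by omega)) (by omega))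
    convert h using 1 <;> ring
  have h2 : t ^ (2:ℕ) + t + 1 ∣ b * (t + 1) := (dvd_mul_left _ _).trans h1
  rcases hb with rfl | rfl
  · exact tooBig h2 (by omega) (by nlinarith only [h4])
  · rcases eq_or_lt_of_le ht with h5 | h5
    · rw [← h5] at h2; norm_num at h2
    · exact tooBig h2 (by omega) (by nlinarith only [ht, h5])

theorem s_L3U5 (ht : 2 ≤ t) (ha : 1 ≤ a) (hb : 1 ≤ b) (hb2 : b ≤ 3)
    (h : a * (((t ^ (10:ℕ)) ^ (2:ℕ) - 1) * ((t ^ (10:ℕ)) ^ (3:ℕ) - 1)) ∣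
      b * (((t ^ (3:ℕ)) ^ (2:ℕ) - 1) * ((t ^ (3:ℕ)) ^ (3:ℕ) + 1) * ((t ^ (3:ℕ)) ^ (4:ℕ) - 1) * ((t ^ (3:ℕ)) ^ (5:ℕ) + 1))) : False := by
  have h1 : a * ((t ^ (20:ℕ) - 1) * (t ^ (15:ℕ) - 1)) ∣ b * ((t ^ (6:ℕ) - 1) * (t ^ (9:ℕ) + 1) * (t ^ (12:ℕ) - 1)) := by
    apply cancel (C := t ^ (15:ℕ) + 1) (by positivity)
    convert h using 1 <;> ring
  have p6 := pw1 ht (k := 6) (by norm_num)
  have p9 := pw1 ht (k := 9) (by norm_num)
  have p12 := pw1 ht (k := 12) (by norm_num)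
  have p14 := pw1 ht (k := 14) (by norm_num)
  have p19 := pw1 ht (k := 19) (by norm_num)
  have e1 : t ^ (6:ℕ) * t ^ (12:ℕ) ≥ (t ^ (6:ℕ) - 1) * (t ^ (12:ℕ) - 1) := by linarith only [p6, p12]
  have e2 : (t ^ (9:ℕ) + 1) ≤ 2 * t ^ (9:ℕ) := by omega
  have q0 : 0 < (t ^ (6:ℕ) - 1) * (t ^ (12:ℕ) - 1) := mul_pos (by omega) (by omega)
  have e3 : (t ^ (6:ℕ) - 1) * (t ^ (9:ℕ) + 1) * (t ^ (12:ℕ) - 1) ≤ 2 * t ^ (27:ℕ) := by
    calc (t ^ (6:ℕ) - 1) * (t ^ (9:ℕ) + 1) * (t ^ (12:ℕ) - 1) = ((t ^ (6:ℕ) - 1) * (t ^ (12:ℕ) - 1)) * (t ^ (9:ℕ) + 1) := by ring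
      _ ≤ (t ^ (6:ℕ) * t ^ (12:ℕ)) * (2 * t ^ (9:ℕ)) := mul_le_mul e1 e2 (by positivity) (by positivity)
      _ = 2 * t ^ (27:ℕ) := by ring
  have e4 : t ^ (19:ℕ) ≤ t ^ (20:ℕ) - 1 := by
    have : t ^ (20:ℕ) = t * t ^ (19:ℕ) := by ring
    nlinarith only [ht, p19]
  have e5 : t ^ (14:ℕ) ≤ t ^ (15:ℕ) - 1 := by
    have : t ^ (15:ℕ) = t * t ^ (14:ℕ) := by ring
    nlinarith only [ht, p14]
  have e6 : t ^ (33:ℕ) ≤ (t ^ (20:ℕ) - 1) * (t ^ (15:ℕ) - 1) := by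
    calc t ^ (33:ℕ) = t ^ (19:ℕ) * t ^ (14:ℕ) := by ring
      _ ≤ _ := mul_le_mul e4 e5 (by positivity) (by linarith)
  have e7 : 64 * t ^ (27:ℕ) ≤ t ^ (33:ℕ) := by
    have h6 := pw ht 6
    have : t ^ (33:ℕ) = t ^ (6:ℕ) * t ^ (27:ℕ) := by ring
    rw [this]
    exact mul_le_mul_of_nonneg_right (by linarith) (by positivity)
  have q1 : 0 < (t ^ (6:ℕ) - 1) * (t ^ (9:ℕ) + 1) * (t ^ (12:ℕ) - 1) := mul_pos (mul_pos (by omega) (by omega)) (by omega)
  refine tooBig ((dvd_mul_left _ _).trans h1) (mul_pos (by omega) q1) ?_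
  have e8 : b * ((t ^ (6:ℕ) - 1) * (t ^ (9:ℕ) + 1) * (t ^ (12:ℕ) - 1)) ≤ 3 * ((t ^ (6:ℕ) - 1) * (t ^ (9:ℕ) + 1) * (t ^ (12:ℕ) - 1)) :=
    mul_le_mul_of_nonneg_right hb2 q1.le
  have q2 : 0 < t ^ (27:ℕ) := by positivity
  linarith

theorem s_L3G2 (ht : 2 ≤ t) (ha : 1 ≤ a) (hb : 1 ≤ b) (hb2 : b ≤ 3)
    (h : a * (((t ^ (2:ℕ)) ^ (2:ℕ) - 1) * ((t ^ (2:ℕ)) ^ (3:ℕ) - 1)) ∣ b * ((t ^ (2:ℕ) - 1) * (t ^ (6:ℕ) - 1))) : False := by
  have h2 := pw1 ht (k := 2) (by norm_num)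
  have h6 := pw1 ht (k := 6) (by norm_num)
  have h1 : a * (t ^ (2:ℕ) + 1) ∣ b := by
    apply cancel (C := (t ^ (2:ℕ) - 1) * (t ^ (6:ℕ) - 1)) (mul_ne_zero (by omega) (by omega))
    convert h using 1 <;> ring
  exact tooBig ((dvd_mul_left _ _).trans h1) (by omega) (by nlinarith only [ht, hb2])

theorem s_L3TD4 (ht : 2 ≤ t) (ha : 1 ≤ a) (hb : 1 ≤ b) (hb2 : b ≤ 3)
    (h : a * (((t ^ (4:ℕ)) ^ (2:ℕ) - 1) * ((t ^ (4:ℕ)) ^ (3:ℕ) - 1)) ∣ b * ((t ^ (2:ℕ) - 1) * (t ^ (6:ℕ) - 1) * (t ^ (8:ℕ) + t ^ (4:ℕ) + 1))) :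
    False := by
  have h2 := pw1 ht (k := 2) (by norm_num)
  have h6 := pw1 ht (k := 6) (by norm_num)
  have h1 : a * ((t ^ (8:ℕ) - 1) * (t ^ (2:ℕ) + 1)) ∣ b * (t ^ (6:ℕ) - 1) := by
    apply cancel (C := (t ^ (2:ℕ) - 1) * (t ^ (8:ℕ) + t ^ (4:ℕ) + 1)) (mul_ne_zero (by omega) (by positivity))
    convert h using 1 <;> ring
  have h3 : t ^ (8:ℕ) - 1 ∣ b * (t ^ (6:ℕ) - 1) := ((dvd_mul_right _ _).trans (dvd_mul_left _ _)).trans h1
  refine tooBig h3 (by nlinarith only [hb, h6]) ?_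
  have h2 : b * (t ^ (6:ℕ) - 1) ≤ 3 * (t ^ (6:ℕ) - 1) := mul_le_mul_of_nonneg_right hb2 (by omega)
  have h4 : 4 * t ^ (6:ℕ) ≤ t ^ (8:ℕ) := by
    have := pw ht 2
    have h5 : t ^ (8:ℕ) = t ^ (2:ℕ) * t ^ (6:ℕ) := by ring
    nlinarith only [h6, this]
  omega

theorem s_L3TF4 (ht : 2 ≤ t) (ha : 1 ≤ a) (hb : 1 ≤ b) (hb2 : b ≤ 3)
    (h : a * (((t ^ (4:ℕ)) ^ (2:ℕ) - 1) * ((t ^ (4:ℕ)) ^ (3:ℕ) - 1)) ∣ b * ((t - 1) * (t ^ (3:ℕ) + 1) * (t ^ (4:ℕ) - 1) * (t ^ (6:ℕ) + 1))) :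
    False := by
  have h4 := pw1 ht (k := 4) (by norm_num)
  have h3 := pw1 ht (k := 3) (by norm_num)
  have h6 := pw1 ht (k := 6) (by norm_num)
  have h1 : a * ((t ^ (4:ℕ) + 1) * (t ^ (2:ℕ) + t + 1)) ∣ b := by
    apply cancel (C := (t - 1) * (t ^ (3:ℕ) + 1) * (t ^ (4:ℕ) - 1) * (t ^ (6:ℕ) + 1))
      (mul_ne_zero (mul_ne_zero (mul_ne_zero (by omega) (by omega)) (by omega)) (by omega))
    convert h using 1 <;> ring
  have h5 : t ^ (2:ℕ) + t + 1 ∣ b := ((dvd_mul_left _ _).trans (dvd_mul_left _ _)).trans h1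
  exact tooBig h5 (by omega) (by nlinarith only [ht, hb2])

theorem s_C2L3 (ht : 2 ≤ t) (ha : 1 ≤ a) (hb : 1 ≤ b) (hb2 : b ≤ 2)
    (h : a * (((t ^ (3:ℕ)) ^ (2:ℕ) - 1) * ((t ^ (3:ℕ)) ^ (4:ℕ) - 1)) ∣ b * (((t ^ (4:ℕ)) ^ (2:ℕ) - 1) * ((t ^ (4:ℕ)) ^ (3:ℕ) - 1))) : False := by
  have h2 := pw1 ht (k := 2) (by norm_num)
  have h12 := pw1 ht (k := 12) (by norm_num)
  have h1 : a * (t ^ (4:ℕ) + t ^ (2:ℕ) + 1) ∣ b * ((t ^ (2:ℕ) + 1) * (t ^ (4:ℕ) + 1)) := by
    apply cancel (C := (t ^ (2:ℕ) - 1) * (t ^ (12:ℕ) - 1)) (mul_ne_zero (by omega) (by omega))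
    convert h using 1 <;> ring
  have h3 : t ^ (4:ℕ) + t ^ (2:ℕ) + 1 ∣ b := reduce (b * t ^ (2:ℕ)) b ((dvd_mul_left _ _).trans h1) (by ring)
  exact tooBig h3 (by omega) (by linarith only [hb2, h2, pw1 ht (k := 4) (by norm_num)])

theorem s_C2U4 (ht : 2 ≤ t) (ha : 1 ≤ a) (hb : 1 ≤ b) (hb2 : b ≤ 2)
    (h : a * (((t ^ (3:ℕ)) ^ (2:ℕ) - 1) * ((t ^ (3:ℕ)) ^ (4:ℕ) - 1)) ∣
      b * (((t ^ (2:ℕ)) ^ (2:ℕ) - 1) * ((t ^ (2:ℕ)) ^ (3:ℕ) + 1) * ((t ^ (2:ℕ)) ^ (4:ℕ) - 1))) : False := by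
  have h2 := pw ht 2
  have h4 := pw1 ht (k := 4) (by norm_num)
  have h1 : a * ((t ^ (4:ℕ) + t ^ (2:ℕ) + 1) * (t ^ (4:ℕ) + t ^ (2:ℕ) + 1)) ∣ b * ((t ^ (2:ℕ) + 1) * (t ^ (2:ℕ) + 1) * (t ^ (4:ℕ) + 1)) := by
    apply cancel (C := (t ^ (2:ℕ) - 1) * (t ^ (2:ℕ) - 1) * (t ^ (6:ℕ) + 1))
      (mul_ne_zero (mul_ne_zero (by omega) (by omega)) (by positivity))
    convert h using 1 <;> ring
  have h3 : t ^ (4:ℕ) + t ^ (2:ℕ) + 1 ∣ b * (t ^ (2:ℕ) + 1) :=
    reduce (b * (t ^ (2:ℕ) + 1) * t ^ (2:ℕ)) _ (((dvd_mul_left _ _).trans (dvd_mul_left _ _)).trans h1) (by ring)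
  refine tooBig h3 (by positivity) ?_
  have : t ^ (4:ℕ) = t ^ (2:ℕ) * t ^ (2:ℕ) := by ring
  nlinarith only [hb2, h2]

theorem s_C2U5 (ht : 2 ≤ t) (ha : 1 ≤ a) (hb : 1 ≤ b) (hb2 : b ≤ 2)
    (h : a * (((t ^ (5:ℕ)) ^ (2:ℕ) - 1) * ((t ^ (5:ℕ)) ^ (4:ℕ) - 1)) ∣
      b * (((t ^ (2:ℕ)) ^ (2:ℕ) - 1) * ((t ^ (2:ℕ)) ^ (3:ℕ) + 1) * ((t ^ (2:ℕ)) ^ (4:ℕ) - 1) * ((t ^ (2:ℕ)) ^ (5:ℕ) + 1))) : False := by
  have h1 : a * ((t ^ (10:ℕ) - 1) * (t ^ (10:ℕ) - 1)) ∣ b * ((t ^ (4:ℕ) - 1) * (t ^ (6:ℕ) + 1) * (t ^ (8:ℕ) - 1)) := by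
    apply cancel (C := t ^ (10:ℕ) + 1) (by positivity)
    convert h using 1 <;> ring
  -- `(t ^ 2 - 1)` cancels once, `t ^ 4 + 1`, ... compare sizes
  have p4 := pw ht 4
  have p6 := pw ht 6
  have p8 := pw ht 8
  have p10 := pw ht 10
  norm_num only [] at p4 p6 p8 p10
  have q1 : 0 < (t ^ (4:ℕ) - 1) * (t ^ (6:ℕ) + 1) * (t ^ (8:ℕ) - 1) := mul_pos (mul_pos (by omega) (by omega)) (by omega)
  refine tooBig ((dvd_mul_left _ _).trans h1) (mul_pos (by omega) q1) ?_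
  have e8 : b * ((t ^ (4:ℕ) - 1) * (t ^ (6:ℕ) + 1) * (t ^ (8:ℕ) - 1)) ≤ 2 * ((t ^ (4:ℕ) - 1) * (t ^ (6:ℕ) + 1) * (t ^ (8:ℕ) - 1)) :=
    mul_le_mul_of_nonneg_right hb2 q1.le
  -- `(t^4-1)(t^6+1) ≤ t^10 + t^4`, so the product is at most `t^18 + t^12`
  have e1 : (t ^ (4:ℕ) - 1) * (t ^ (6:ℕ) + 1) ≤ t ^ (10:ℕ) + t ^ (4:ℕ) := by
    have : (t ^ (4:ℕ) - 1) * (t ^ (6:ℕ) + 1) = t ^ (10:ℕ) + t ^ (4:ℕ) - t ^ (6:ℕ) - 1 := by ring
    linarith
  have e2 : (t ^ (4:ℕ) - 1) * (t ^ (6:ℕ) + 1) * (t ^ (8:ℕ) - 1) ≤ (t ^ (10:ℕ) + t ^ (4:ℕ)) * (t ^ (8:ℕ) - 1) :=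
    mul_le_mul_of_nonneg_right e1 (by omega)
  have e3 : (t ^ (10:ℕ) + t ^ (4:ℕ)) * (t ^ (8:ℕ) - 1) = t ^ (18:ℕ) + t ^ (12:ℕ) - t ^ (10:ℕ) - t ^ (4:ℕ) := by ring
  have e4 : (t ^ (10:ℕ) - 1) * (t ^ (10:ℕ) - 1) = t ^ (20:ℕ) - 2 * t ^ (10:ℕ) + 1 := by ring
  have e5 : 4 * t ^ (18:ℕ) ≤ t ^ (20:ℕ) := by
    have := pw ht 2
    have h5 : t ^ (20:ℕ) = t ^ (2:ℕ) * t ^ (18:ℕ) := by ring
    rw [h5]
    exact mul_le_mul_of_nonneg_right (by linarith) (by positivity)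
  have e6 : 64 * t ^ (12:ℕ) ≤ t ^ (18:ℕ) := by
    have h5 : t ^ (18:ℕ) = t ^ (6:ℕ) * t ^ (12:ℕ) := by ring
    rw [h5]
    exact mul_le_mul_of_nonneg_right (by linarith) (by positivity)
  have e7 : t ^ (10:ℕ) ≤ t ^ (12:ℕ) := pwm ht (by norm_num)
  have q2 : 0 < t ^ (12:ℕ) := by positivity
  linarith only [p4, p10, e8, e2, e5, e6, e7]

theorem s_C2G2 (ht : 2 ≤ t) (ha : 1 ≤ a) (hb : 1 ≤ b) (hb2 : b ≤ 2)
    (h : a * (((t ^ (3:ℕ)) ^ (2:ℕ) - 1) * ((t ^ (3:ℕ)) ^ (4:ℕ) - 1)) ∣ b * (((t ^ (2:ℕ)) ^ (2:ℕ) - 1) * ((t ^ (2:ℕ)) ^ (6:ℕ) - 1))) : False := by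
  have h12 := pw1 ht (k := 12) (by norm_num)
  have h4 := pw1 ht (k := 4) (by norm_num)
  have h1 : a * (t ^ (6:ℕ) - 1) ∣ b * (t ^ (4:ℕ) - 1) := by
    apply cancel (C := t ^ (12:ℕ) - 1) (by omega)
    convert h using 1 <;> ring
  refine tooBig ((dvd_mul_left _ _).trans h1) (by nlinarith only [hb, h4]) ?_
  have h2 : b * (t ^ (4:ℕ) - 1) ≤ 2 * (t ^ (4:ℕ) - 1) := mul_le_mul_of_nonneg_right hb2 (by omega)
  have h5 : 4 * t ^ (4:ℕ) ≤ t ^ (6:ℕ) := by
    have := pw ht 2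
    have h5 : t ^ (6:ℕ) = t ^ (2:ℕ) * t ^ (4:ℕ) := by ring
    nlinarith only [h4, this]
  omega

theorem s_C2TD4 (ht : 2 ≤ t) (ha : 1 ≤ a) (hb : 1 ≤ b) (hb2 : b ≤ 2)
    (h : a * (((t ^ (3:ℕ)) ^ (2:ℕ) - 1) * ((t ^ (3:ℕ)) ^ (4:ℕ) - 1)) ∣ b * ((t ^ (2:ℕ) - 1) * (t ^ (6:ℕ) - 1) * (t ^ (8:ℕ) + t ^ (4:ℕ) + 1))) :
    False := by
  have h2 := pw1 ht (k := 2) (by norm_num)
  have h6 := pw1 ht (k := 6) (by norm_num)
  have h1 : a * (t ^ (2:ℕ) + 1) ∣ b := by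
    apply cancel (C := (t ^ (2:ℕ) - 1) * (t ^ (6:ℕ) - 1) * (t ^ (8:ℕ) + t ^ (4:ℕ) + 1))
      (mul_ne_zero (mul_ne_zero (by omega) (by omega)) (by positivity))
    convert h using 1 <;> ring
  exact tooBig ((dvd_mul_left _ _).trans h1) (by omega) (by linarith only [hb2, h2])

theorem s_C2TF4 (ht : 2 ≤ t) (ha : 1 ≤ a) (hb : 1 ≤ b) (hb2 : b ≤ 2)
    (h : a * (((t ^ (3:ℕ)) ^ (2:ℕ) - 1) * ((t ^ (3:ℕ)) ^ (4:ℕ) - 1)) ∣ b * ((t - 1) * (t ^ (3:ℕ) + 1) * (t ^ (4:ℕ) - 1) * (t ^ (6:ℕ) + 1))) :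
    False := by
  have h2 := pw1 ht (k := 2) (by norm_num)
  have h3 := pw1 ht (k := 3) (by norm_num)
  have h1 : a * ((t ^ (4:ℕ) + t ^ (2:ℕ) + 1) * (t ^ (2:ℕ) + t + 1)) ∣ b * (t ^ (2:ℕ) + 1) := by
    apply cancel (C := (t - 1) * (t ^ (3:ℕ) + 1) * (t ^ (2:ℕ) - 1) * (t ^ (6:ℕ) + 1))
      (mul_ne_zero (mul_ne_zero (mul_ne_zero (by omega) (by omega)) (by omega)) (by positivity))
    convert h using 1 <;> ring
  have h5 : t ^ (4:ℕ) + t ^ (2:ℕ) + 1 ∣ b * (t ^ (2:ℕ) + 1) := ((dvd_mul_right _ _).trans (dvd_mul_left _ _)).trans h1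
  refine tooBig h5 (by positivity) ?_
  have h4 : t ^ (4:ℕ) = t ^ (2:ℕ) * t ^ (2:ℕ) := by ring
  have := pw ht 2
  nlinarith only [hb2, this]

theorem s_G2C2 (ht : 2 ≤ t) (ha : 1 ≤ a)
    (h : a * (((t ^ (2:ℕ)) ^ (2:ℕ) - 1) * ((t ^ (2:ℕ)) ^ (6:ℕ) - 1)) ∣ 1 * (((t ^ (3:ℕ)) ^ (2:ℕ) - 1) * ((t ^ (3:ℕ)) ^ (4:ℕ) - 1))) : False := by
  have h2 := pw1 ht (k := 2) (by norm_num)
  have h12 := pw1 ht (k := 12) (by norm_num)
  have h1 : a * (t ^ (2:ℕ) + 1) ∣ t ^ (4:ℕ) + t ^ (2:ℕ) + 1 := by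
    apply cancel (C := (t ^ (2:ℕ) - 1) * (t ^ (12:ℕ) - 1)) (mul_ne_zero (by omega) (by omega))
    convert h using 1 <;> ring
  have h3 : t ^ (2:ℕ) + 1 ∣ 1 := reduce (t ^ (2:ℕ)) 1 ((dvd_mul_left _ _).trans h1) (by ring)
  exact tooBig h3 (by omega) (by omega)

theorem s_G2U4 (ht : 2 ≤ t) (ha : 1 ≤ a)
    (h : a * ((t ^ (2:ℕ) - 1) * (t ^ (6:ℕ) - 1)) ∣ 1 * ((t ^ (2:ℕ) - 1) * (t ^ (3:ℕ) + 1) * (t ^ (4:ℕ) - 1))) : False := by
  have h2 := pw1 ht (k := 2) (by norm_num)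
  have h3 := pw1 ht (k := 3) (by norm_num)
  have h1 : a * (t ^ (3:ℕ) - 1) ∣ t ^ (4:ℕ) - 1 := by
    apply cancel (C := (t ^ (2:ℕ) - 1) * (t ^ (3:ℕ) + 1)) (mul_ne_zero (by omega) (by omega))
    convert h using 1 <;> ring
  have h4 : t ^ (3:ℕ) - 1 ∣ t - 1 := reduce t (t - 1) ((dvd_mul_left _ _).trans h1) (by ring)
  refine tooBig h4 (by omega) (by nlinarith only [ht, h2])

theorem s_G2TD4 (ht : 2 ≤ t)
    (h : 1 * (((t ^ (2:ℕ)) ^ (2:ℕ) - 1) * ((t ^ (2:ℕ)) ^ (6:ℕ) - 1)) ∣ 1 * ((t ^ (2:ℕ) - 1) * (t ^ (6:ℕ) - 1) * (t ^ (8:ℕ) + t ^ (4:ℕ) + 1))) :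
    False := by
  have h2 := pw1 ht (k := 2) (by norm_num)
  have h1 : (t ^ (2:ℕ) + 1) * (t ^ (2:ℕ) + 1) ∣ t ^ (4:ℕ) + t ^ (2:ℕ) + 1 := by
    apply cancel (C := (t ^ (2:ℕ) - 1) * (t ^ (2:ℕ) - 1) * (t ^ (8:ℕ) + t ^ (4:ℕ) + 1))
      (mul_ne_zero (mul_ne_zero (by omega) (by omega)) (by positivity))
    convert h using 1 <;> ring
  exact tooBig h1 (by positivity) (by linarith only [h2])

theorem s_G2TF4 (ht : 2 ≤ t)
    (h : 1 * (((t ^ (2:ℕ)) ^ (2:ℕ) - 1) * ((t ^ (2:ℕ)) ^ (6:ℕ) - 1)) ∣ 1 * ((t - 1) * (t ^ (3:ℕ) + 1) * (t ^ (4:ℕ) - 1) * (t ^ (6:ℕ) + 1))) :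
    False := by
  have h4 := pw1 ht (k := 4) (by norm_num)
  have h3 := pw1 ht (k := 3) (by norm_num)
  have h1 : t ^ (3:ℕ) - 1 ∣ t - 1 := by
    apply cancel (C := (t ^ (3:ℕ) + 1) * (t ^ (4:ℕ) - 1) * (t ^ (6:ℕ) + 1))
      (mul_ne_zero (mul_ne_zero (by omega) (by omega)) (by positivity))
    convert h using 1 <;> ring
  exact tooBig h1 (by omega) (by nlinarith only [ht, pw1 ht (k := 2) (by norm_num)])

theorem s_TD4L3 (ht : 2 ≤ t) (ha : 1 ≤ a)
    (h : a * ((t ^ (2:ℕ) - 1) * (t ^ (6:ℕ) - 1) * (t ^ (8:ℕ) + t ^ (4:ℕ) + 1)) ∣ 1 * (((t ^ (4:ℕ)) ^ (2:ℕ) - 1) * ((t ^ (4:ℕ)) ^ (3:ℕ) - 1))) :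
    False := by
  have h2 := pw ht 2
  have h1 : a * (t ^ (4:ℕ) + t ^ (2:ℕ) + 1) ∣ (t ^ (2:ℕ) + 1) * (t ^ (2:ℕ) + 1) * (t ^ (4:ℕ) + 1) := by
    apply cancel (C := (t ^ (2:ℕ) - 1) * (t ^ (2:ℕ) - 1) * (t ^ (8:ℕ) + t ^ (4:ℕ) + 1))
      (mul_ne_zero (mul_ne_zero (by omega) (by omega)) (by positivity))
    convert h using 1 <;> ring
  have h3 : t ^ (4:ℕ) + t ^ (2:ℕ) + 1 ∣ t ^ (2:ℕ) + 1 :=
    reduce ((t ^ (2:ℕ) + 1) * t ^ (2:ℕ)) _ ((dvd_mul_left _ _).trans h1) (by ring)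
  exact tooBig h3 (by positivity) (by linarith only [pw1 ht (k := 4) (by norm_num)])

theorem s_TD4U4 (ht : 2 ≤ t) (ha : 1 ≤ a)
    (h : a * ((t ^ (2:ℕ) - 1) * (t ^ (6:ℕ) - 1) * (t ^ (8:ℕ) + t ^ (4:ℕ) + 1)) ∣
      1 * (((t ^ (2:ℕ)) ^ (2:ℕ) - 1) * ((t ^ (2:ℕ)) ^ (3:ℕ) + 1) * ((t ^ (2:ℕ)) ^ (4:ℕ) - 1))) : False := by
  have h2 := pw ht 2
  have h4 : 0 < t ^ (4:ℕ) - t ^ (2:ℕ) + 1 := by
    have : t ^ (4:ℕ) = t ^ (2:ℕ) * t ^ (2:ℕ) := by ring
    nlinarith only [h2]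
  have h1 : a * ((t ^ (4:ℕ) + t ^ (2:ℕ) + 1) * (t ^ (4:ℕ) + t ^ (2:ℕ) + 1)) ∣
      (t ^ (2:ℕ) + 1) * (t ^ (2:ℕ) + 1) * ((t ^ (2:ℕ) + 1) * (t ^ (4:ℕ) + 1)) := by
    apply cancel (C := (t ^ (2:ℕ) - 1) * (t ^ (2:ℕ) - 1) * (t ^ (4:ℕ) - t ^ (2:ℕ) + 1))
      (mul_ne_zero (mul_ne_zero (by omega) (by omega)) (by omega))
    convert h using 1 <;> ring
  have h3 : t ^ (4:ℕ) + t ^ (2:ℕ) + 1 ∣ t ^ (2:ℕ) :=
    reduce (1 + t ^ (2:ℕ) * (t ^ (2:ℕ) + 1) * (t ^ (2:ℕ) + 1)) _ (((dvd_mul_left _ _).trans (dvd_mul_left _ _)).trans h1) (by ring)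
  exact tooBig h3 (by positivity) (by linarith only [h2, h4])

theorem s_TD4G2 (ht : 2 ≤ t)
    (h : 1 * ((t ^ (2:ℕ) - 1) * (t ^ (6:ℕ) - 1) * (t ^ (8:ℕ) + t ^ (4:ℕ) + 1)) ∣ 1 * (((t ^ (2:ℕ)) ^ (2:ℕ) - 1) * ((t ^ (2:ℕ)) ^ (6:ℕ) - 1))) :
    False := by
  have h2 := pw ht 2
  have h1 : t ^ (4:ℕ) + t ^ (2:ℕ) + 1 ∣ (t ^ (2:ℕ) + 1) * (t ^ (2:ℕ) + 1) := by
    apply cancel (C := (t ^ (2:ℕ) - 1) * (t ^ (2:ℕ) - 1) * (t ^ (8:ℕ) + t ^ (4:ℕ) + 1))
      (mul_ne_zero (mul_ne_zero (by omega) (by omega)) (by positivity))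
    convert h using 1 <;> ring
  have h3 : t ^ (4:ℕ) + t ^ (2:ℕ) + 1 ∣ t ^ (2:ℕ) := reduce 1 _ h1 (by ring)
  exact tooBig h3 (by positivity) (by linarith only [pw1 ht (k := 4) (by norm_num)])

theorem s_TD4TF4 (ht : 2 ≤ t)
    (h : 1 * ((t ^ (2:ℕ) - 1) * (t ^ (6:ℕ) - 1) * (t ^ (8:ℕ) + t ^ (4:ℕ) + 1)) ∣
      1 * ((t - 1) * (t ^ (3:ℕ) + 1) * (t ^ (4:ℕ) - 1) * (t ^ (6:ℕ) + 1))) : False := by
  have h2 := pw ht 2
  have h3 := pw ht 3
  have h1 : (t ^ (2:ℕ) + t + 1) * (t ^ (8:ℕ) + t ^ (4:ℕ) + 1) ∣ (t ^ (2:ℕ) + 1) * (t ^ (6:ℕ) + 1) := by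
    apply cancel (C := (t ^ (2:ℕ) - 1) * (t - 1) * (t ^ (3:ℕ) + 1))
      (mul_ne_zero (mul_ne_zero (by omega) (by omega)) (by omega))
    convert h using 1 <;> ring
  refine tooBig h1 (by positivity) ?_
  have h5 : t ^ (6:ℕ) ≤ t ^ (8:ℕ) := pwm ht (by norm_num)
  have h6 : 0 < t ^ (4:ℕ) := by positivity
  have h7 : 0 < t ^ (6:ℕ) := by positivity
  exact mul_lt_mul'' (by omega) (by omega) (by positivity) (by positivity)

theorem s_TF4L3 (ht : 2 ≤ t) (h3 : t % 3 = 2)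
    (h : 3 * ((t - 1) * (t ^ (3:ℕ) + 1) * (t ^ (4:ℕ) - 1) * (t ^ (6:ℕ) + 1)) ∣ 1 * (((t ^ (4:ℕ)) ^ (2:ℕ) - 1) * ((t ^ (4:ℕ)) ^ (3:ℕ) - 1))) :
    False := by
  have h4 := pw1 ht (k := 4) (by norm_num)
  have h3' := pw1 ht (k := 3) (by norm_num)
  have h1 : 3 ∣ (t ^ (4:ℕ) + 1) * (t ^ (2:ℕ) + t + 1) := by
    apply cancel (C := (t - 1) * (t ^ (3:ℕ) + 1) * (t ^ (4:ℕ) - 1) * (t ^ (6:ℕ) + 1))
      (mul_ne_zero (mul_ne_zero (mul_ne_zero (by omega) (by omega)) (by omega)) (by positivity))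
    convert h using 1 <;> ring
  have h5 : ((t ^ (4:ℕ) + 1) * (t ^ (2:ℕ) + t + 1)) % 3 = 0 := Int.emod_eq_zero_of_dvd h1
  obtain ⟨s, hs⟩ : ∃ s, t = 3 * s + 2 := ⟨t / 3, by omega⟩
  subst hs
  have h6 : ((3 * s + 2) ^ (4:ℕ) + 1) * ((3 * s + 2) ^ (2:ℕ) + (3 * s + 2) + 1) = 3 * (((3 * s + 2) ^ (4:ℕ) + 1) *
      (3 * s ^ (2:ℕ) + 5 * s + 2) + (27 * s ^ (4:ℕ) + 72 * s ^ (3:ℕ) + 72 * s ^ (2:ℕ) + 32 * s + 5)) + 2 := by ring
  omega

theorem s_TF4C2 (ht : 2 ≤ t) (ha : 1 ≤ a)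
    (h : a * ((t - 1) * (t ^ (3:ℕ) + 1) * (t ^ (4:ℕ) - 1) * (t ^ (6:ℕ) + 1)) ∣ 1 * (((t ^ (3:ℕ)) ^ (2:ℕ) - 1) * ((t ^ (3:ℕ)) ^ (4:ℕ) - 1))) :
    False := by
  have h2 := pw1 ht (k := 2) (by norm_num)
  have h3' := pw1 ht (k := 3) (by norm_num)
  have h1 : a * (t ^ (2:ℕ) + 1) ∣ (t ^ (4:ℕ) + t ^ (2:ℕ) + 1) * (t ^ (2:ℕ) + t + 1) := by
    apply cancel (C := (t - 1) * (t ^ (3:ℕ) + 1) * (t ^ (2:ℕ) - 1) * (t ^ (6:ℕ) + 1))
      (mul_ne_zero (mul_ne_zero (mul_ne_zero (by omega) (by omega)) (by omega)) (by positivity))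
    convert h using 1 <;> ring
  have h3 : t ^ (2:ℕ) + 1 ∣ t := reduce (t ^ (2:ℕ) * (t ^ (2:ℕ) + t + 1) + 1) _ ((dvd_mul_left _ _).trans h1) (by ring)
  exact tooBig h3 (by omega) (by nlinarith only [])

theorem s_TF4U4 (ht : 2 ≤ t) (ha : 1 ≤ a)
    (h : a * ((t - 1) * (t ^ (3:ℕ) + 1) * (t ^ (4:ℕ) - 1) * (t ^ (6:ℕ) + 1)) ∣
      1 * (((t ^ (2:ℕ)) ^ (2:ℕ) - 1) * ((t ^ (2:ℕ)) ^ (3:ℕ) + 1) * ((t ^ (2:ℕ)) ^ (4:ℕ) - 1))) : False := by
  have h4 := pw1 ht (k := 4) (by norm_num)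
  have h1 : a * (t ^ (2:ℕ) - t + 1) ∣ (t ^ (2:ℕ) + 1) * (t ^ (4:ℕ) + 1) := by
    apply cancel (C := (t - 1) * (t + 1) * (t ^ (4:ℕ) - 1) * (t ^ (6:ℕ) + 1))
      (mul_ne_zero (mul_ne_zero (mul_ne_zero (by omega) (by omega)) (by omega)) (by positivity))
    convert h using 1 <;> ring
  have h3 : t ^ (2:ℕ) - t + 1 ∣ 1 := reduce (t ^ (4:ℕ) + t ^ (3:ℕ) + t ^ (2:ℕ)) 1 ((dvd_mul_left _ _).trans h1) (by ring)
  exact tooBig h3 (by omega) (by nlinarith only [ht])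

theorem s_U4L3 (ht : 2 ≤ t) (ha : 1 ≤ a) (hb : b ∣ 4)
    (h : a * ((t ^ (2:ℕ) - 1) * (t ^ (3:ℕ) + 1) * (t ^ (4:ℕ) - 1)) ∣ b * (((t ^ (2:ℕ)) ^ (2:ℕ) - 1) * ((t ^ (2:ℕ)) ^ (3:ℕ) - 1))) : t = 3 := by
  have h4 := pw1 ht (k := 4) (by norm_num)
  have h3' := pw1 ht (k := 3) (by norm_num)
  have h1 : a * (t + 1) ∣ b * (t ^ (2:ℕ) + t + 1) := by
    apply cancel (C := (t - 1) * (t ^ (3:ℕ) + 1) * (t ^ (4:ℕ) - 1))
      (mul_ne_zero (mul_ne_zero (by omega) (by omega)) (by omega))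
    convert h using 1 <;> ring
  have h2 : t + 1 ∣ b := reduce (b * t) b ((dvd_mul_left _ _).trans h1) (by ring)
  have h5 : t + 1 ∣ 4 := h2.trans hb
  have h6 := Int.le_of_dvd (by norm_num) h5
  have h7 : t ≤ 3 := by omega
  interval_cases t
  · norm_num at h5
  · rfl

theorem s_G2L3 (ht : 2 ≤ t) (h : a * ((t ^ (2:ℕ) - 1) * (t ^ (6:ℕ) - 1)) ∣ 1 * (((t ^ (2:ℕ)) ^ (2:ℕ) - 1) * ((t ^ (2:ℕ)) ^ (3:ℕ) - 1))) :
    a ∣ t ^ (2:ℕ) + 1 := by
  have h2 := pw1 ht (k := 2) (by norm_num)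
  have h6 := pw1 ht (k := 6) (by norm_num)
  apply cancel (C := (t ^ (2:ℕ) - 1) * (t ^ (6:ℕ) - 1)) (mul_ne_zero (by omega) (by omega))
  convert h using 1 <;> ring

theorem s_D4F4 (ht : 2 ≤ t) (ha : 1 ≤ a) (hb : 1 ≤ b) (hb2 : b ≤ 4)
    (h : a * (((t ^ (2:ℕ)) ^ (4:ℕ) - 1) * (((t ^ (2:ℕ)) ^ (2:ℕ) - 1) * ((t ^ (2:ℕ)) ^ (4:ℕ) - 1) * ((t ^ (2:ℕ)) ^ (6:ℕ) - 1))) ∣
      b * ((t ^ (2:ℕ) - 1) * (t ^ (6:ℕ) - 1) * (t ^ (8:ℕ) - 1) * (t ^ (12:ℕ) - 1))) : False := by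
  have h2 := pw1 ht (k := 2) (by norm_num)
  have h8 := pw1 ht (k := 8) (by norm_num)
  have h6 := pw1 ht (k := 6) (by norm_num)
  have h12 := pw1 ht (k := 12) (by norm_num)
  have h1 : a * ((t ^ (8:ℕ) - 1) * (t ^ (2:ℕ) + 1)) ∣ b * (t ^ (6:ℕ) - 1) := by
    apply cancel (C := (t ^ (2:ℕ) - 1) * (t ^ (8:ℕ) - 1) * (t ^ (12:ℕ) - 1))
      (mul_ne_zero (mul_ne_zero (by omega) (by omega)) (by omega))
    convert h using 1 <;> ring
  have h3 : t ^ (8:ℕ) - 1 ∣ b * (t ^ (6:ℕ) - 1) := ((dvd_mul_right _ _).trans (dvd_mul_left _ _)).trans h1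
  refine tooBig h3 (by nlinarith only [hb, h6]) ?_
  have h2 : b * (t ^ (6:ℕ) - 1) ≤ 4 * (t ^ (6:ℕ) - 1) := mul_le_mul_of_nonneg_right hb2 (by omega)
  have h4 : 4 * t ^ (6:ℕ) ≤ t ^ (8:ℕ) := by
    have := pw ht 2
    have h5 : t ^ (8:ℕ) = t ^ (2:ℕ) * t ^ (6:ℕ) := by ring
    nlinarith only [h8, this]
  omega

theorem s_F4D4 (ht : 2 ≤ t) (ha : 1 ≤ a)
    (h : a * ((t ^ (2:ℕ) - 1) * (t ^ (6:ℕ) - 1) * (t ^ (8:ℕ) - 1) * (t ^ (12:ℕ) - 1)) ∣
      1 * (((t ^ (2:ℕ)) ^ (4:ℕ) - 1) * (((t ^ (2:ℕ)) ^ (2:ℕ) - 1) * ((t ^ (2:ℕ)) ^ (4:ℕ) - 1) * ((t ^ (2:ℕ)) ^ (6:ℕ) - 1)))) : False := by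
  have h2 := pw1 ht (k := 2) (by norm_num)
  have h8 := pw1 ht (k := 8) (by norm_num)
  have h12 := pw1 ht (k := 12) (by norm_num)
  have h1 : a * (t ^ (4:ℕ) + t ^ (2:ℕ) + 1) ∣ (t ^ (2:ℕ) + 1) * ((t ^ (2:ℕ) + 1) * (t ^ (4:ℕ) + 1)) := by
    apply cancel (C := (t ^ (2:ℕ) - 1) * (t ^ (2:ℕ) - 1) * (t ^ (8:ℕ) - 1) * (t ^ (12:ℕ) - 1))
      (mul_ne_zero (mul_ne_zero (mul_ne_zero (by omega) (by omega)) (by omega)) (by omega))
    convert h using 1 <;> ring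
  have h3 : t ^ (4:ℕ) + t ^ (2:ℕ) + 1 ∣ t ^ (2:ℕ) + 1 :=
    reduce ((t ^ (2:ℕ) + 1) * t ^ (2:ℕ)) _ ((dvd_mul_left _ _).trans h1) (by ring)
  exact tooBig h3 (by positivity) (by linarith only [pw1 ht (k := 4) (by norm_num)])

end

end Cfsg.Agent.H365.Near
end

-- part: H365/NearMain
section
/-!
# One order of a group of Lie type dividing another one in the same characteristic
-/

set_option autoImplicit false

namespace Cfsg.Agent.H365.Near

open Finset Cfsg.Agent.H902.Art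

/-- `num` over the integers -/
def numZ : Sh → ℤ → ℤ
  | .L n, q => ∏ i ∈ range (n - 1), (q ^ (i + 2) - 1)
  | .C m, q => ∏ i ∈ range m, (q ^ (2 * (i + 1)) - 1)
  | .U n, q => ∏ i ∈ range (n - 1), (if Even i then q ^ (i + 2) - 1 else q ^ (i + 2) + 1)
  | .D m, q => (q ^ m - 1) * ∏ i ∈ range (m - 1), (q ^ (2 * (i + 1)) - 1)
  | .DD m, q => (q ^ m + 1) * ∏ i ∈ range (m - 1), (q ^ (2 * (i + 1)) - 1)
  | .G2, q => (q ^ (2:ℕ) - 1) * (q ^ (6:ℕ) - 1)
  | .F4, q => (q ^ (2:ℕ) - 1) * (q ^ (6:ℕ) - 1) * (q ^ (8:ℕ) - 1) * (q ^ (12:ℕ) - 1)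
  | .E6, q => (q ^ (2:ℕ) - 1) * (q ^ (5:ℕ) - 1) * (q ^ (6:ℕ) - 1) * (q ^ (8:ℕ) - 1) * (q ^ (9:ℕ) - 1) * (q ^ (12:ℕ) - 1)
  | .E7, q => (q ^ (2:ℕ) - 1) * (q ^ (6:ℕ) - 1) * (q ^ (8:ℕ) - 1) * (q ^ (10:ℕ) - 1) * (q ^ (12:ℕ) - 1) * (q ^ (14:ℕ) - 1) * (q ^ (18:ℕ) - 1)
  | .E8, q => (q ^ (2:ℕ) - 1) * (q ^ (8:ℕ) - 1) * (q ^ (12:ℕ) - 1) * (q ^ (14:ℕ) - 1) * (q ^ (18:ℕ) - 1) * (q ^ (20:ℕ) - 1) * (q ^ (24:ℕ) - 1) *
      (q ^ (30:ℕ) - 1)
  | .TE6, q => (q ^ (2:ℕ) - 1) * (q ^ (5:ℕ) + 1) * (q ^ (6:ℕ) - 1) * (q ^ (8:ℕ) - 1) * (q ^ (9:ℕ) + 1) * (q ^ (12:ℕ) - 1)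
  | .TD4, q => (q ^ (2:ℕ) - 1) * (q ^ (6:ℕ) - 1) * (q ^ (8:ℕ) + q ^ (4:ℕ) + 1)
  | .Sz, q => (q - 1) * (q ^ (2:ℕ) + 1)
  | .Ree, q => (q - 1) * (q ^ (3:ℕ) + 1)
  | .TF4, q => (q - 1) * (q ^ (3:ℕ) + 1) * (q ^ (4:ℕ) - 1) * (q ^ (6:ℕ) + 1)

theorem cast_num {q : ℕ} (hq : 1 ≤ q) (X : Sh) : ((num X q : ℕ) : ℤ) = numZ X (q : ℤ) := by
  have g : ∀ k : ℕ, ((q ^ k - 1 : ℕ) : ℤ) = (q : ℤ) ^ k - 1 := by
    intro k
    rw [Nat.cast_sub (Nat.one_le_pow _ _ hq)]; push_cast; ring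
  have g1 : ((q - 1 : ℕ) : ℤ) = (q : ℤ) - 1 := by rw [Nat.cast_sub hq]; simp
  cases X <;> unfold num numZ <;> push_cast [g, g1] <;> try rfl
  all_goals
    apply Finset.prod_congr rfl
    intro i _
    split_ifs
    · exact g _
    · push_cast; ring

section

variable {X Y : Sh} {p f g M M' : ℕ}

theorem exps (hX : Real X p g M') (hY : Real Y p f M) (hD : g * DM X = f * DM Y) (hk : kap X = kap Y) :
    g * NN X = f * NN Y := by
  have h1 := four_NN hX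
  have h2 := four_NN hY
  have h3 : 4 * (g * NN X) = 4 * (f * NN Y) := by
    calc 4 * (g * NN X) = g * (4 * NN X) := by ring
      _ = (g * DM X) * kap X := by rw [h1]; ring
      _ = (f * DM Y) * kap Y := by rw [hD, hk]
      _ = f * (4 * NN Y) := by rw [h2]; ring
      _ = 4 * (f * NN Y) := by ring
  omega

theorem cross_dvd (hX : Real X p g M') (hY : Real Y p f M) (hdvd : M' ∣ M) (hN : g * NN X = f * NN Y) :
    dd Y (p ^ f) * num X (p ^ g) ∣ dd X (p ^ g) * num Y (p ^ f) := by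
  have hpos : 0 < (p ^ g) ^ NN X := pow_pos (by have := hX.q_ge; omega) _
  have h3 : (p ^ g) ^ NN X = (p ^ f) ^ NN Y := by rw [← pow_mul, ← pow_mul, hN]
  apply Nat.dvd_of_mul_dvd_mul_left hpos
  have h1 : (p ^ g) ^ NN X * (dd Y (p ^ f) * num X (p ^ g)) = dd Y (p ^ f) * (dd X (p ^ g) * M') := by
    rw [hX.eq]; ring
  have h2 : (p ^ g) ^ NN X * (dd X (p ^ g) * num Y (p ^ f)) = dd X (p ^ g) * (dd Y (p ^ f) * M) := by
    rw [hY.eq, h3]; ring
  rw [h1, h2]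
  obtain ⟨c, rfl⟩ := hdvd
  exact ⟨c, by ring⟩

theorem cross_dvd_Z (hX : Real X p g M') (hY : Real Y p f M) (hdvd : M' ∣ M) (hN : g * NN X = f * NN Y) :
    ((dd Y (p ^ f) : ℕ) : ℤ) * numZ X ((p : ℤ) ^ g) ∣ ((dd X (p ^ g) : ℕ) : ℤ) * numZ Y ((p : ℤ) ^ f) := by
  have h := Int.natCast_dvd_natCast.2 (cross_dvd hX hY hdvd hN)
  have h1 : 1 ≤ p ^ g := by have := hX.q_ge; omega
  have h2 : 1 ≤ p ^ f := by have := hY.q_ge; omega
  rw [Nat.cast_mul, Nat.cast_mul, cast_num h1, cast_num h2, Nat.cast_pow, Nat.cast_pow] at h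
  exact h


theorem fam2 (h : Real X p g M') (hk : kap X = 2) : X = .L 2 ∨ X = .U 3 ∨ X = .Sz ∨ X = .Ree := by
  have hok := h.ok
  have h1 := fam h
  rw [hk] at h1
  rcases h1 with h1 | h1 | h1 | h1 | h1 | h1 | h1 | h1 | h1 | h1 | h1 | h1 | h1 | h1 | h1 | h1
  · left; exact h1
  · subst h1; exact absurd hok.1 (by decide)
  · subst h1; exact absurd hok.1 (by decide)
  · right; left; exact h1
  · subst h1; exact absurd (show 4 ≤ 1 from hok) (by decide)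
  · subst h1; exact absurd (show 4 ≤ 2 from hok) (by decide)
  · rw [h1] at hk; exact absurd hk (by decide)
  · rw [h1] at hk; exact absurd hk (by decide)
  · rw [h1] at hk; exact absurd hk (by decide)
  · rw [h1] at hk; exact absurd hk (by decide)
  · rw [h1] at hk; exact absurd hk (by decide)
  · rw [h1] at hk; exact absurd hk (by decide)
  · rw [h1] at hk; exact absurd hk (by decide)
  · simp [h1]
  · simp [h1]
  · rw [h1] at hk; exact absurd hk (by decide)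

theorem fam4 (h : Real X p g M') (hk : kap X = 4) :
    X = .L 3 ∨ X = .C 2 ∨ X = .U 4 ∨ X = .U 5 ∨ X = .G2 ∨ X = .TD4 ∨ X = .TF4 := by
  have hok := h.ok
  have h1 := fam h
  rw [hk] at h1
  rcases h1 with h1 | h1 | h1 | h1 | h1 | h1 | h1 | h1 | h1 | h1 | h1 | h1 | h1 | h1 | h1 | h1
  · left; exact h1
  · right; left; exact h1
  · right; right; left; exact h1
  · right; right; right; left; exact h1
  · subst h1; exact absurd (show 4 ≤ 2 from hok) (by decide)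
  · subst h1; exact absurd (show 4 ≤ 3 from hok) (by decide)
  · simp [h1]
  · rw [h1] at hk; exact absurd hk (by decide)
  · rw [h1] at hk; exact absurd hk (by decide)
  · rw [h1] at hk; exact absurd hk (by decide)
  · rw [h1] at hk; exact absurd hk (by decide)
  · rw [h1] at hk; exact absurd hk (by decide)
  · simp [h1]
  · rw [h1] at hk; exact absurd hk (by decide)
  · rw [h1] at hk; exact absurd hk (by decide)
  · simp [h1]

/-! explicit polynomials -/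

theorem nL2 (q : ℤ) : numZ (.L 2) q = q ^ (2:ℕ) - 1 := by simp [numZ]
theorem nU3 (q : ℤ) : numZ (.U 3) q = (q ^ (2:ℕ) - 1) * (q ^ (3:ℕ) + 1) := by
  simp only [numZ, Finset.prod_range_succ, _root_.Nat.add_one_sub_one, _root_.Finset.range_one, _root_.Finset.prod_singleton, _root_.Even.zero, ↓ _root_.reduceIte, _root_.zero_add, _root_.Nat.not_even_one, _root_.Nat.reduceAdd]
theorem nL3 (q : ℤ) : numZ (.L 3) q = (q ^ (2:ℕ) - 1) * (q ^ (3:ℕ) - 1) := by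
  simp [numZ, Finset.prod_range_succ]
theorem nC2 (q : ℤ) : numZ (.C 2) q = (q ^ (2:ℕ) - 1) * (q ^ (4:ℕ) - 1) := by
  simp [numZ, Finset.prod_range_succ]
theorem nU4 (q : ℤ) : numZ (.U 4) q = (q ^ (2:ℕ) - 1) * (q ^ (3:ℕ) + 1) * (q ^ (4:ℕ) - 1) := by
  simp only [numZ, Finset.prod_range_succ, _root_.Nat.add_one_sub_one, _root_.Finset.range_one, _root_.Finset.prod_singleton, _root_.Even.zero, ↓ _root_.reduceIte, _root_.zero_add, _root_.Nat.not_even_one, _root_.Nat.reduceAdd, _root_.even_two]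
theorem nU5 (q : ℤ) : numZ (.U 5) q = (q ^ (2:ℕ) - 1) * (q ^ (3:ℕ) + 1) * (q ^ (4:ℕ) - 1) * (q ^ (5:ℕ) + 1) := by
  simp only [numZ, Finset.prod_range_succ, show ¬ Even 3 by decide, _root_.Nat.add_one_sub_one, _root_.Finset.range_one, _root_.Finset.prod_singleton, _root_.Even.zero, ↓ _root_.reduceIte, _root_.zero_add, _root_.Nat.not_even_one, _root_.Nat.reduceAdd, _root_.even_two]
theorem nD4 (q : ℤ) : numZ (.D 4) q = (q ^ (4:ℕ) - 1) * ((q ^ (2:ℕ) - 1) * (q ^ (4:ℕ) - 1) * (q ^ (6:ℕ) - 1)) := by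
  simp only [numZ, Finset.prod_range_succ, _root_.Nat.add_one_sub_one, _root_.Finset.range_one, _root_.Finset.prod_singleton, _root_.zero_add, _root_.mul_one, _root_.Nat.reduceAdd, _root_.Nat.reduceMul]

/-- bounds for the denominators, as integers -/
theorem dd_one_le (h : Real X p g M') : (1 : ℤ) ≤ ((dd X (p ^ g) : ℕ) : ℤ) := by
  have := Nat.pos_of_ne_zero h.dd_ne
  omega

theorem dL2 (q : ℕ) : ((dd (.L 2) q : ℕ) : ℤ) ≤ 2 := by
  have : dd (.L 2) q ≤ 2 := Nat.gcd_le_left _ (by norm_num)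
  omega
theorem dC2 (q : ℕ) : ((dd (.C 2) q : ℕ) : ℤ) ≤ 2 := by
  have : dd (.C 2) q ≤ 2 := Nat.gcd_le_left _ (by norm_num)
  omega
theorem dU3 (q : ℕ) : ((dd (.U 3) q : ℕ) : ℤ) ≤ 3 := by
  have : dd (.U 3) q ≤ 3 := Nat.gcd_le_left _ (by norm_num)
  omega
theorem dL3 (q : ℕ) : ((dd (.L 3) q : ℕ) : ℤ) ≤ 3 := by
  have : dd (.L 3) q ≤ 3 := Nat.gcd_le_left _ (by norm_num)
  omega
theorem dL3' (q : ℕ) : ((dd (.L 3) q : ℕ) : ℤ) = 1 ∨ ((dd (.L 3) q : ℕ) : ℤ) = 3 := by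
  rcases gcd3 (q - 1) with h | h
  · left; show ((Nat.gcd 3 (q - 1) : ℕ) : ℤ) = 1; rw [h]; rfl
  · right; show ((Nat.gcd 3 (q - 1) : ℕ) : ℤ) = 3; rw [h]; rfl
theorem dD4 (q : ℕ) : ((dd (.D 4) q : ℕ) : ℤ) ≤ 4 := by
  have : dd (.D 4) q ≤ 4 := Nat.gcd_le_left _ (by norm_num)
  omega

/-- the exceptional pairs: here the order of the group of shape `X` over the field of `p^g` elements divides the
order of the group of shape `Y` over the field of `p^f` elements, with the same `p`-part -/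
def Exc (X Y : Sh) (p g f : ℕ) : Prop :=
  (X = .L 3 ∧ Y = .L 4 ∧ p = 2 ∧ g = 2 ∧ f = 1) ∨ (X = .U 4 ∧ Y = .L 3 ∧ p = 3 ∧ g = 1 ∧ f = 2) ∨
    (∃ n, 4 ≤ n ∧ X = .DD n ∧ Y = .L n ∧ f = 2 * g ∧ (Even n ∨ p ^ g = 3)) ∨
    (X = .G2 ∧ Y = .L 3 ∧ p = 3 ∧ f = 2 * g) ∨ (X = .TD4 ∧ Y = .C 2 ∧ f = 3 * g) ∨
    (X = .Sz ∧ Y = .L 2 ∧ f = 2 * g) ∨ (X = .Ree ∧ Y = .U 3 ∧ f = g) ∨ (X = .TF4 ∧ Y = .G2 ∧ f = 2 * g)

theorem not_three_sq (s : ℕ) : ¬ 3 ∣ s ^ (2:ℕ) + 1 := by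
  intro h
  have h4 : s % 3 = 0 ∨ s % 3 = 1 ∨ s % 3 = 2 := by omega
  have h5 : (s ^ (2:ℕ) + 1) % 3 = 0 := Nat.mod_eq_zero_of_dvd h
  rcases h4 with h4 | h4 | h4 <;> rw [Nat.add_mod, Nat.pow_mod, h4] at h5 <;> norm_num at h5

/-- the pairs with `kap = 2` -/
theorem small2 (hX : Real X p g M') (hY : Real Y p f M) (hdvd : M' ∣ M) (hD : g * DM X = f * DM Y)
    (hk : kap X = kap Y) (h2 : kap X = 2) : X = Y ∨ Exc X Y p g f := by
  have hN := exps hX hY hD hk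
  have key := cross_dvd_Z hX hY hdvd hN
  have hp := hX.hp
  have hp2 := hp.two_le
  have hg := hX.hf
  have hf := hY.hf
  have ha := dd_one_le hY
  have hb := dd_one_le hX
  have pw : ∀ a b : ℕ, (p : ℤ) ^ (a * b) = ((p : ℤ) ^ b) ^ a := fun a b => by rw [mul_comm, pow_mul]
  have htt : ∀ u, 1 ≤ u → (2 : ℤ) ≤ (p : ℤ) ^ u := by
    intro u hu
    have h1 : 2 ≤ p ^ u := hp2.trans (Nat.le_self_pow (by omega) p)
    exact_mod_cast h1
  rcases fam2 hX h2 with rfl | rfl | rfl | rfl <;> rcases fam2 hY (by rw [← hk, h2]) with rfl | rfl | rfl | rfl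
  · exact Or.inl rfl
  · -- L2 U3
    exfalso
    have h3 : g * 2 = f * 6 := hD
    obtain rfl : g = 3 * f := by omega
    rw [pw, nL2, nU3] at key
    exact s_L2U3 (htt f hf) ha hb (dL2 _) key
  · exfalso
    have h3 : g * 2 = f * 4 := hD
    obtain rfl : g = 2 * f := by omega
    rw [pw, nL2] at key
    exact s_L2Sz (htt f hf) ha hb (dL2 _) key
  · exfalso
    have h3 : g * 2 = f * 6 := hD
    obtain rfl : g = 3 * f := by omega
    rw [pw, nL2] at key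
    exact s_L2Ree (htt f hf) ha hb (dL2 _) key
  · -- U3 L2
    exfalso
    have h3 : g * 6 = f * 2 := hD
    obtain rfl : f = 3 * g := by omega
    rw [pw, nL2, nU3] at key
    have hok : 3 ≤ p ^ g := hX.ok.2 rfl
    exact s_U3L2 (by exact_mod_cast hok) ha hb (dU3 _) key
  · exact Or.inl rfl
  · -- U3 Sz
    exfalso
    have h3 : g * 6 = f * 4 := hD
    obtain ⟨u, rfl⟩ : ∃ u, g = 2 * u := ⟨g / 2, by omega⟩
    obtain rfl : f = 3 * u := by omega
    have hd : dd (.U 3) (p ^ (2 * u)) = 1 := by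
      show Nat.gcd 3 (p ^ (2 * u) + 1) = 1
      rcases gcd3 (p ^ (2 * u) + 1) with h | h
      · exact h
      · exfalso
        have h4 : 3 ∣ p ^ (2 * u) + 1 := by rw [← h]; exact Nat.gcd_dvd_right _ _
        rw [show p ^ (2 * u) = (p ^ u) ^ (2:ℕ) by rw [mul_comm, pow_mul]] at h4
        exact not_three_sq _ h4
    rw [hd, pw, pw, nU3] at key
    exact s_U3Sz (htt u (by omega)) ha key
  · -- U3 Ree
    exfalso
    have h3 : g * 6 = f * 6 := hD
    obtain rfl : f = g := by omega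
    rw [nU3] at key
    have hok : 3 ≤ p ^ f := hX.ok.2 rfl
    exact s_U3Ree (by exact_mod_cast hok) ha hb (dU3 _) key
  · -- Sz L2
    have h3 : g * 4 = f * 2 := hD
    right; unfold Exc
    simp only [_root_.reduceCtorEq, _root_.Cfsg.Agent.H902.Art.Sh.L.injEq, _root_.Nat.reduceEqDiff, _root_.false_and, _root_.and_self, _root_.and_false, _root_.exists_const, _root_.true_and, _root_.or_self, _root_.or_false, _root_.false_or]; omega
  · -- Sz U3
    exfalso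
    have h3 : g * 4 = f * 6 := hD
    obtain ⟨u, rfl⟩ : ∃ u, f = 2 * u := ⟨f / 2, by omega⟩
    obtain rfl : g = 3 * u := by omega
    rw [pw, pw, nU3] at key
    exact s_SzU3 (htt u (by omega)) ha key
  · exact Or.inl rfl
  · exfalso
    have h1 : p = 2 ∧ Odd g ∧ 3 ≤ g := hX.ok
    have h2 : p = 3 ∧ Odd f ∧ 3 ≤ f := hY.ok
    omega
  · -- Ree L2
    exfalso
    have h3 : g * 6 = f * 2 := hD
    obtain rfl : f = 3 * g := by omega
    have h1 : p = 3 ∧ Odd g ∧ 3 ≤ g := hX.ok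
    obtain ⟨rfl, hodd, hg3⟩ := h1
    have hd : dd (.L 2) (3 ^ (3 * g)) = 2 := by
      show Nat.gcd 2 (3 ^ (3 * g) - 1) = 2
      apply Nat.gcd_eq_left
      have h4 : (3 ^ (3 * g)) % 2 = 1 := by rw [Nat.pow_mod]; norm_num
      omega
    rw [hd, pw, nL2] at key
    refine s_ReeL2 (t := ((3 : ℕ) : ℤ) ^ g) (htt g hg) ?_ key
    have h4 : (3 ^ g) % 2 = 1 := by rw [Nat.pow_mod]; norm_num
    have h5 : ((3 ^ g : ℕ) : ℤ) % 2 = 1 := by exact_mod_cast h4
    push_cast at h5 ⊢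
    exact h5
  · -- Ree U3
    have h3 : g * 6 = f * 6 := hD
    right; unfold Exc
    simp only [_root_.reduceCtorEq, _root_.false_and, _root_.and_self, _root_.and_false, _root_.exists_const, _root_.true_and, _root_.or_false, _root_.false_or]; omega
  · exfalso
    have h1 : p = 3 ∧ Odd g ∧ 3 ≤ g := hX.ok
    have h2 : p = 2 ∧ Odd f ∧ 3 ≤ f := hY.ok
    omega
  · exact Or.inl rfl

set_option maxHeartbeats 1000000 in
/-- the pairs with `kap = 4` -/
theorem small4 (hX : Real X p g M') (hY : Real Y p f M) (hdvd : M' ∣ M) (hD : g * DM X = f * DM Y)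
    (hk : kap X = kap Y) (h4 : kap X = 4) : X = Y ∨ Exc X Y p g f := by
  have hN := exps hX hY hD hk
  have key := cross_dvd_Z hX hY hdvd hN
  have hp := hX.hp
  have hp2 := hp.two_le
  have hg := hX.hf
  have hf := hY.hf
  have ha := dd_one_le hY
  have hb := dd_one_le hX
  have pw : ∀ a b : ℕ, (p : ℤ) ^ (a * b) = ((p : ℤ) ^ b) ^ a := fun a b => by rw [mul_comm, pow_mul]
  have htt : ∀ u, 1 ≤ u → (2 : ℤ) ≤ (p : ℤ) ^ u := by
    intro u hu
    have h1 : 2 ≤ p ^ u := hp2.trans (Nat.le_self_pow (by omega) p)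
    exact_mod_cast h1
  rcases fam4 hX h4 with rfl | rfl | rfl | rfl | rfl | rfl | rfl <;>
    rcases fam4 hY (by rw [← hk, h4]) with rfl | rfl | rfl | rfl | rfl | rfl | rfl
  · -- L3 L3
    exact Or.inl rfl
  · -- L3 C2
    have h3 : g * 3 = f * 4 := hD
    exfalso
    obtain ⟨u, rfl⟩ : ∃ u, f = 3 * u := ⟨f / 3, by omega⟩
    obtain rfl : g = 4 * u := by omega
    rw [pw, pw, nL3, nC2] at key
    exact s_L3C2 (htt u (by omega)) ha hb (dL3 _) key
  · -- L3 U4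
    have h3 : g * 3 = f * 6 := hD
    exfalso
    obtain rfl : g = 2 * f := by omega
    rw [pw, nL3, nU4] at key
    exact s_L3U4 (htt f hf) ha (dL3' _) key
  · -- L3 U5
    have h3 : g * 3 = f * 10 := hD
    exfalso
    obtain ⟨u, rfl⟩ : ∃ u, f = 3 * u := ⟨f / 3, by omega⟩
    obtain rfl : g = 10 * u := by omega
    rw [pw, pw, nL3, nU5] at key
    exact s_L3U5 (htt u (by omega)) ha hb (dL3 _) key
  · -- L3 G2
    have h3 : g * 3 = f * 6 := hD
    exfalso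
    obtain rfl : g = 2 * f := by omega
    rw [pw, nL3] at key
    exact s_L3G2 (htt f hf) ha hb (dL3 _) key
  · -- L3 TD4
    have h3 : g * 3 = f * 12 := hD
    exfalso
    obtain rfl : g = 4 * f := by omega
    rw [pw, nL3] at key
    exact s_L3TD4 (htt f hf) ha hb (dL3 _) key
  · -- L3 TF4
    have h3 : g * 3 = f * 12 := hD
    exfalso
    obtain rfl : g = 4 * f := by omega
    rw [pw, nL3] at key
    exact s_L3TF4 (htt f hf) ha hb (dL3 _) key
  · -- C2 L3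
    have h3 : g * 4 = f * 3 := hD
    exfalso
    obtain ⟨u, rfl⟩ : ∃ u, f = 4 * u := ⟨f / 4, by omega⟩
    obtain rfl : g = 3 * u := by omega
    rw [pw, pw, nC2, nL3] at key
    exact s_C2L3 (htt u (by omega)) ha hb (dC2 _) key
  · -- C2 C2
    exact Or.inl rfl
  · -- C2 U4
    have h3 : g * 4 = f * 6 := hD
    exfalso
    obtain ⟨u, rfl⟩ : ∃ u, f = 2 * u := ⟨f / 2, by omega⟩
    obtain rfl : g = 3 * u := by omega
    rw [pw, pw, nC2, nU4] at key
    exact s_C2U4 (htt u (by omega)) ha hb (dC2 _) key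
  · -- C2 U5
    have h3 : g * 4 = f * 10 := hD
    exfalso
    obtain ⟨u, rfl⟩ : ∃ u, f = 2 * u := ⟨f / 2, by omega⟩
    obtain rfl : g = 5 * u := by omega
    rw [pw, pw, nC2, nU5] at key
    exact s_C2U5 (htt u (by omega)) ha hb (dC2 _) key
  · -- C2 G2
    have h3 : g * 4 = f * 6 := hD
    exfalso
    obtain ⟨u, rfl⟩ : ∃ u, f = 2 * u := ⟨f / 2, by omega⟩
    obtain rfl : g = 3 * u := by omega
    rw [pw, pw, nC2] at key
    exact s_C2G2 (htt u (by omega)) ha hb (dC2 _) key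
  · -- C2 TD4
    have h3 : g * 4 = f * 12 := hD
    exfalso
    obtain rfl : g = 3 * f := by omega
    rw [pw, nC2] at key
    exact s_C2TD4 (htt f hf) ha hb (dC2 _) key
  · -- C2 TF4
    have h3 : g * 4 = f * 12 := hD
    exfalso
    obtain rfl : g = 3 * f := by omega
    rw [pw, nC2] at key
    exact s_C2TF4 (htt f hf) ha hb (dC2 _) key
  · -- U4 L3
    have h3 : g * 6 = f * 3 := hD
    obtain rfl : f = 2 * g := by omega
    rw [pw, nU4, nL3] at key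
    have hb4 : ((dd (.U 4) (p ^ g) : ℕ) : ℤ) ∣ 4 := by
      have h5 : dd (.U 4) (p ^ g) ∣ 4 := Nat.gcd_dvd_left 4 (p ^ g + 1)
      exact_mod_cast h5
    have h4 := s_U4L3 (htt g hg) ha hb4 key
    have h5 : p ^ g = 3 := by exact_mod_cast h4
    have h6 : g = 1 := by
      by_contra h7
      have h8 : p ^ (2:ℕ) ≤ p ^ g := Nat.pow_le_pow_right (by omega) (by omega)
      nlinarith only [hp2, h4, h8]
    rw [h6, pow_one] at h5
    right; unfold Exc
    simp only [h5, h6, _root_.reduceCtorEq, _root_.Cfsg.Agent.H902.Art.Sh.L.injEq, _root_.Nat.reduceEqDiff, _root_.Nat.succ_ne_self, _root_.OfNat.one_ne_ofNat, _root_.mul_one, _root_.OfNat.ofNat_ne_one, _root_.and_self, _root_.pow_one, _root_.or_true, _root_.and_true, _root_.false_and, _root_.and_false, _root_.exists_const, _root_.or_self, _root_.or_false]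
  · -- U4 C2
    exact (KK_false hX hY hdvd hD (by decide)).elim
  · -- U4 U4
    exact Or.inl rfl
  · -- U4 U5
    exact (KK_false hX hY hdvd hD (by decide)).elim
  · -- U4 G2
    exact (KK_false hX hY hdvd hD (by decide)).elim
  · -- U4 TD4
    exact (KK_false hX hY hdvd hD (by decide)).elim
  · -- U4 TF4
    exact (KK_false hX hY hdvd hD (by decide)).elim
  · -- U5 L3
    exact (KK_false hX hY hdvd hD (by decide)).elim
  · -- U5 C2
    exact (KK_false hX hY hdvd hD (by decide)).elim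
  · -- U5 U4
    exact (KK_false hX hY hdvd hD (by decide)).elim
  · -- U5 U5
    exact Or.inl rfl
  · -- U5 G2
    exact (KK_false hX hY hdvd hD (by decide)).elim
  · -- U5 TD4
    exact (KK_false hX hY hdvd hD (by decide)).elim
  · -- U5 TF4
    exact (KK_false hX hY hdvd hD (by decide)).elim
  · -- G2 L3
    have h3 : g * 6 = f * 3 := hD
    obtain rfl : f = 2 * g := by omega
    rw [pw, nL3] at key
    have h4 := s_G2L3 (htt g hg) key
    have hp3 : p = 3 := by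
      by_contra h7
      have h8 : ¬ 3 ∣ p := fun h => h7 ((Nat.prime_dvd_prime_iff_eq Nat.prime_three hp).1 h).symm
      have h9 : ¬ 3 ∣ p ^ g := fun h => h8 (Nat.prime_three.dvd_of_dvd_pow h)
      have h10 : (p ^ (2 * g)) % 3 = 1 := by
        rw [mul_comm, pow_mul, Nat.pow_mod]
        have h11 : (p ^ g) % 3 = 1 ∨ (p ^ g) % 3 = 2 := by omega
        rcases h11 with h11 | h11 <;> rw [h11]
      have hd : dd (.L 3) (p ^ (2 * g)) = 3 := by
        show Nat.gcd 3 (p ^ (2 * g) - 1) = 3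
        apply Nat.gcd_eq_left
        omega
      rw [hd] at h4
      have h12 : (3 : ℕ) ∣ (p ^ g) ^ (2:ℕ) + 1 := by exact_mod_cast h4
      exact not_three_sq _ h12
    right; unfold Exc
    simp only [hp3, _root_.reduceCtorEq, _root_.Cfsg.Agent.H902.Art.Sh.L.injEq, _root_.Nat.reduceEqDiff, _root_.Nat.succ_ne_self, _root_.mul_eq_one, _root_.OfNat.ofNat_ne_one, _root_.false_and, _root_.and_false, _root_.and_self, _root_.ne_eq, _root_.OfNat.ofNat_ne_zero, _root_.not_false_eq_true, _root_.mul_eq_left₀, _root_.true_and, _root_.exists_const, _root_.mul_eq_mul_right_iff, _root_.false_or, _root_.and_true, _root_.or_self, _root_.or_false, _root_.or_true]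
  · -- G2 C2
    have h3 : g * 6 = f * 4 := hD
    exfalso
    obtain ⟨u, rfl⟩ : ∃ u, f = 3 * u := ⟨f / 3, by omega⟩
    obtain rfl : g = 2 * u := by omega
    rw [pw, pw, nC2] at key
    exact s_G2C2 (htt u (by omega)) ha key
  · -- G2 U4
    have h3 : g * 6 = f * 6 := hD
    exfalso
    obtain rfl : f = g := by omega
    rw [nU4] at key
    exact s_G2U4 (htt f hf) ha key
  · -- G2 U5
    exact (KK_false hX hY hdvd hD (by decide)).elim
  · -- G2 G2
    exact Or.inl rfl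
  · -- G2 TD4
    have h3 : g * 6 = f * 12 := hD
    exfalso
    obtain rfl : g = 2 * f := by omega
    rw [pw] at key
    exact s_G2TD4 (htt f hf) key
  · -- G2 TF4
    have h3 : g * 6 = f * 12 := hD
    exfalso
    obtain rfl : g = 2 * f := by omega
    rw [pw] at key
    exact s_G2TF4 (htt f hf) key
  · -- TD4 L3
    have h3 : g * 12 = f * 3 := hD
    exfalso
    obtain rfl : f = 4 * g := by omega
    rw [pw, nL3] at key
    exact s_TD4L3 (htt g hg) ha key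
  · -- TD4 C2
    have h3 : g * 12 = f * 4 := hD
    right; unfold Exc
    simp only [_root_.reduceCtorEq, _root_.false_and, _root_.and_self, _root_.and_false, _root_.exists_const, _root_.true_and, _root_.or_self, _root_.or_false, _root_.false_or]; omega
  · -- TD4 U4
    have h3 : g * 12 = f * 6 := hD
    exfalso
    obtain rfl : f = 2 * g := by omega
    rw [pw, nU4] at key
    exact s_TD4U4 (htt g hg) ha key
  · -- TD4 U5
    exact (KK_false hX hY hdvd hD (by decide)).elim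
  · -- TD4 G2
    have h3 : g * 12 = f * 6 := hD
    exfalso
    obtain rfl : f = 2 * g := by omega
    rw [pw] at key
    exact s_TD4G2 (htt g hg) key
  · -- TD4 TD4
    exact Or.inl rfl
  · -- TD4 TF4
    have h3 : g * 12 = f * 12 := hD
    exfalso
    obtain rfl : f = g := by omega
    exact s_TD4TF4 (htt f hf) key
  · -- TF4 L3
    have h3 : g * 12 = f * 3 := hD
    exfalso
    obtain rfl : f = 4 * g := by omega
    have h1 : p = 2 ∧ Odd g ∧ 3 ≤ g := hX.ok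
    obtain ⟨rfl, hodd, hg3⟩ := h1
    have h4 : (2 ^ g) % 3 = 2 := by
      obtain ⟨j, rfl⟩ := hodd
      rw [pow_succ, pow_mul, Nat.mul_mod, Nat.pow_mod]; norm_num
    have hd : dd (.L 3) (2 ^ (4 * g)) = 3 := by
      show Nat.gcd 3 (2 ^ (4 * g) - 1) = 3
      apply Nat.gcd_eq_left
      have h5 : (2 ^ (4 * g)) % 3 = 1 := by rw [pow_mul, Nat.pow_mod]; norm_num
      have h6 : 0 < 2 ^ (4 * g) := by positivity
      omega
    rw [hd, pw, nL3] at key
    refine s_TF4L3 (t := ((2 : ℕ) : ℤ) ^ g) (htt g hg) ?_ key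
    have h5 : ((2 ^ g : ℕ) : ℤ) % 3 = 2 := by exact_mod_cast h4
    push_cast at h5 ⊢
    exact h5
  · -- TF4 C2
    have h3 : g * 12 = f * 4 := hD
    exfalso
    obtain rfl : f = 3 * g := by omega
    rw [pw, nC2] at key
    exact s_TF4C2 (htt g hg) ha key
  · -- TF4 U4
    have h3 : g * 12 = f * 6 := hD
    exfalso
    obtain rfl : f = 2 * g := by omega
    rw [pw, nU4] at key
    exact s_TF4U4 (htt g hg) ha key
  · -- TF4 U5
    exact (KK_false hX hY hdvd hD (by decide)).elim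
  · -- TF4 G2
    have h3 : g * 12 = f * 6 := hD
    right; unfold Exc
    simp only [_root_.reduceCtorEq, _root_.false_and, _root_.and_self, _root_.and_false, _root_.exists_const, _root_.true_and, _root_.false_or]; omega
  · -- TF4 TD4
    exact (KK_false hX hY hdvd hD (by decide)).elim
  · -- TF4 TF4
    exact Or.inl rfl

end

end Cfsg.Agent.H365.Near
end

private theorem dce_179fd1d75c5e : _root_.True := by
  try have : _root_.True := by simp only [_root_.Cfsg.Agent.H365.Near.numZ.eq_11]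
  try have : _root_.True := by simp only [_root_.Cfsg.Agent.H365.Near.numZ.eq_3]
  try have : _root_.True := by simp only [_root_.Cfsg.Agent.H365.Near.numZ.eq_6]
  try have : _root_.True := by simp only [_root_.Cfsg.Agent.H365.Near.numZ.eq_5]
  try have : _root_.True := by simp only [_root_.Cfsg.Agent.H365.Near.numZ.eq_7]
  try have : _root_.True := by simp only [_root_.Cfsg.Agent.H365.Near.numZ.eq_9]
  try have : _root_.True := by simp only [_root_.Cfsg.Agent.H365.Near.numZ.eq_13]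
  try have : _root_.True := by simp only [_root_.Cfsg.Agent.H365.Near.numZ.eq_14]
  try have : _root_.True := by simp only [_root_.Cfsg.Agent.H365.Near.numZ.eq_12]
  try have : _root_.True := by simp only [_root_.Cfsg.Agent.H365.Near.lst.eq_1]
  try have : _root_.True := by simp only [_root_.Cfsg.Agent.H365.Near.numZ.eq_10]
  try have : _root_.True := by simp only [_root_.Cfsg.Agent.H365.Near.numZ.eq_4]
  try have : _root_.True := by simp only [_root_.Cfsg.Agent.H365.Near.numZ.eq_8]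
  try have : _root_.True := by simp only [_root_.Cfsg.Agent.H365.Near.numZ.eq_15]
  try have : _root_.True := by simp only [_root_.Cfsg.Agent.H365.Near.numZ.eq_1]
  try have : _root_.True := by simp only [_root_.Cfsg.Agent.H365.Near.numZ.eq_2]
  exact _root_.True.intro
end

-- part: H365/Near
section
prune_inst 0x4000000000040000000000000400000000000000000000000000000000000000000004000000000001000000000000000000000000000000000000000000000000002040000240100000000000001580c00000000000000000000000000000000000000000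
set_option linter.all false
open scoped Cfsg.Agent.FastGrp

/-!
# NearEqual: one order of a group of Lie type dividing another one in the same characteristic, with almost the same
`p`-part and the same largest exponent
-/

set_option autoImplicit false

namespace Cfsg.Agent.H365.Near

open Finset Cfsg.Agent.H902.Art Cfsg.Agent.Lib.Zsigmondy

section

variable {X Y : Sh} {p f g M M' n : ℕ}

theorem numL_sq {q : ℕ} (hq : 2 ≤ q) (hn : 1 ≤ n) : num (.L n) (q ^ 2) * (q ^ 2 - 1) =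
    (∏ i ∈ range (n - 1), (q ^ (2 * (i + 1)) - 1)) * ((q ^ n - 1) * (q ^ n + 1)) := by
  have h6 : q ^ (2 * n) - 1 = (q ^ n - 1) * (q ^ n + 1) := by
    have g1 : 1 ≤ q ^ n := Nat.one_le_pow _ _ (by omega)
    have g2 : 1 ≤ q ^ (2 * n) := Nat.one_le_pow _ _ (by omega)
    zify [g1, g2]; ring
  have h3 : ∏ i ∈ range n, (q ^ (2 * (i + 1)) - 1) = num (.L n) (q ^ 2) * (q ^ 2 - 1) := by
    obtain ⟨k, rfl⟩ := Nat.exists_eq_add_of_le' hn
    rw [Finset.prod_range_succ']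
    show _ = (∏ i ∈ range k, ((q ^ 2) ^ (i + 2) - 1)) * (q ^ 2 - 1)
    congr 1
    apply Finset.prod_congr rfl
    intro i _
    rw [← pow_mul q 2 (i + 2)]
  rw [← h3, ← h6]
  obtain ⟨k, rfl⟩ := Nat.exists_eq_add_of_le' hn
  rw [Finset.prod_range_succ]
  rfl

/-- `|L_n(q²)|` does not divide `|O⁻_{2n}(q)|` -/
theorem LDD_false (hn : 4 ≤ n) (hX : Real (.L n) p g M') (hY : Real (.DD n) p f M) (hdvd : M' ∣ M)
    (hD : g * DM (.L n) = f * DM (.DD n)) (hk : kap (.L n) = kap (.DD n)) : False := by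
  have hN := exps hX hY hD hk
  have hc := cross_dvd hX hY hdvd hN
  have hq := hY.q_ge
  have h1 : g = 2 * f := by
    have h2 : g * n = f * (2 * n) := hD
    have h3 : g * n = (2 * f) * n := by rw [h2]; ring
    exact Nat.eq_of_mul_eq_mul_right (by omega) h3
  subst h1
  have hq2 : p ^ (2 * f) = (p ^ f) ^ 2 := by rw [mul_comm, pow_mul]
  rw [hq2] at hc
  set q := p ^ f with hqdef
  have ha : 1 ≤ dd (.DD n) q := gcd4_pos _
  have hb : dd (.L n) (q ^ 2) ≤ n := Nat.gcd_le_left _ (by omega)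
  have hb0 : 0 < dd (.L n) (q ^ 2) := Nat.gcd_pos_of_pos_left _ (by omega)
  set a := dd (.DD n) q
  set b := dd (.L n) (q ^ 2)
  set A := ∏ i ∈ range (n - 1), (q ^ (2 * (i + 1)) - 1) with hA
  have hA0 : 0 < A := Nat.pos_of_ne_zero (Finset.prod_ne_zero_iff.2 fun i _ => sub_one_ne hq (by omega))
  have h2 := numL_sq (n := n) hq (by omega)
  rw [← hA] at h2
  have h5 : num (.DD n) q = (q ^ n + 1) * A := rfl
  rw [h5] at hc
  have hle := Nat.le_of_dvd (by positivity) hc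
  have h7 : a * (q ^ n - 1) ≤ b * (q ^ 2 - 1) := by
    have hh : A * (q ^ n + 1) * (a * (q ^ n - 1)) ≤ A * (q ^ n + 1) * (b * (q ^ 2 - 1)) := by
      calc A * (q ^ n + 1) * (a * (q ^ n - 1)) = a * (A * ((q ^ n - 1) * (q ^ n + 1))) := by ring
        _ = a * (num (.L n) (q ^ 2) * (q ^ 2 - 1)) := by rw [h2]
        _ = (a * num (.L n) (q ^ 2)) * (q ^ 2 - 1) := by ring
        _ ≤ (b * ((q ^ n + 1) * A)) * (q ^ 2 - 1) := Nat.mul_le_mul_right _ hle
        _ = A * (q ^ n + 1) * (b * (q ^ 2 - 1)) := by ring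
    exact Nat.le_of_mul_le_mul_left hh (by positivity)
  have h8 : b * (q ^ 2 - 1) ≤ n * (q ^ 2 - 1) := Nat.mul_le_mul_right _ hb
  have h9 : q ^ n - 1 ≤ a * (q ^ n - 1) := Nat.le_mul_of_pos_left _ ha
  have h10 : n ≤ q ^ (n - 2) := (le_two_pow_sub hn).trans (Nat.pow_le_pow_left hq _)
  have h11 : q ^ n = q ^ (n - 2) * q ^ 2 := by rw [← pow_add]; congr 1; omega
  have h12 : q ^ (n - 2) * (q ^ 2 - 1) + q ^ (n - 2) = q ^ n := by
    rw [h11]
    have g1 : 1 ≤ q ^ 2 := Nat.one_le_pow _ _ (by omega)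
    zify [g1]; ring
  have h13 : n * (q ^ 2 - 1) ≤ q ^ (n - 2) * (q ^ 2 - 1) := Nat.mul_le_mul_right _ h10
  omega

/-- `|O⁻_{2n}(q)|` divides `|L_n(q²)|` for even `n` or `q = 3` only -/
theorem DDL_exc (hn : 4 ≤ n) (hX : Real (.DD n) p g M') (hY : Real (.L n) p f M) (hdvd : M' ∣ M)
    (hD : g * DM (.DD n) = f * DM (.L n)) (hk : kap (.DD n) = kap (.L n)) : f = 2 * g ∧ (Even n ∨ p ^ g = 3) := by
  have hN := exps hX hY hD hk
  have hc := cross_dvd hX hY hdvd hN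
  have hq := hX.q_ge
  have h1 : f = 2 * g := by
    have h2 : g * (2 * n) = f * n := hD
    have h3 : f * n = (2 * g) * n := by rw [← h2]; ring
    exact Nat.eq_of_mul_eq_mul_right (by omega) h3
  refine ⟨h1, ?_⟩
  by_cases he : Even n
  · exact Or.inl he
  right
  subst h1
  have hq2 : p ^ (2 * g) = (p ^ g) ^ 2 := by rw [mul_comm, pow_mul]
  rw [hq2] at hc
  set q := p ^ g with hqdef
  have ha4 : dd (.DD n) q ∣ 4 := Nat.gcd_dvd_left _ _
  set a := dd (.DD n) q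
  set b := dd (.L n) (q ^ 2)
  set A := ∏ i ∈ range (n - 1), (q ^ (2 * (i + 1)) - 1) with hA
  have hA0 : 0 < A := Nat.pos_of_ne_zero (Finset.prod_ne_zero_iff.2 fun i _ => sub_one_ne hq (by omega))
  have h2 := numL_sq (n := n) hq (by omega)
  rw [← hA] at h2
  have h5 : num (.DD n) q = (q ^ n + 1) * A := rfl
  rw [h5] at hc
  have h7 : b * (q ^ 2 - 1) ∣ a * (q ^ n - 1) := by
    apply Nat.dvd_of_mul_dvd_mul_left (k := A * (q ^ n + 1)) (by positivity)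
    have h8 := Nat.mul_dvd_mul_right hc (q ^ 2 - 1)
    have e1 : A * (q ^ n + 1) * (b * (q ^ 2 - 1)) = b * ((q ^ n + 1) * A) * (q ^ 2 - 1) := by ring
    have e2 : A * (q ^ n + 1) * (a * (q ^ n - 1)) = a * num (.L n) (q ^ 2) * (q ^ 2 - 1) := by
      calc A * (q ^ n + 1) * (a * (q ^ n - 1)) = a * (A * ((q ^ n - 1) * (q ^ n + 1))) := by ring
        _ = a * (num (.L n) (q ^ 2) * (q ^ 2 - 1)) := by rw [h2]
        _ = _ := by ring
    rw [e1, e2]; exact h8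
  -- pass to the integers
  have h8 : ((q : ℤ) ^ 2 - 1) ∣ (a : ℤ) * ((q : ℤ) ^ n - 1) := by
    have h9 : (q ^ 2 - 1) ∣ a * (q ^ n - 1) := (dvd_mul_left _ _).trans h7
    have h10 := Int.natCast_dvd_natCast.2 h9
    rw [Nat.cast_mul, Nat.cast_sub (Nat.one_le_pow _ _ (by omega)), Nat.cast_sub (Nat.one_le_pow _ _ (by omega))] at h10
    push_cast at h10
    exact h10
  have hgeom : ((q : ℤ) ^ n - 1) = ((q : ℤ) - 1) * ∑ i ∈ range n, (q : ℤ) ^ i := by
    rw [mul_comm, geom_sum_mul]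
  have h9 : ((q : ℤ) + 1) ∣ (a : ℤ) * ∑ i ∈ range n, (q : ℤ) ^ i := by
    apply cancel (C := (q : ℤ) - 1) (by omega)
    rw [hgeom] at h8
    convert h8 using 1 <;> ring
  -- the sum is one modulo `q + 1`
  have h10 : ((q : ℤ) + 1) ∣ (∑ i ∈ range n, (q : ℤ) ^ i) - 1 := by
    obtain ⟨m, hm⟩ := Nat.not_even_iff_odd.1 he
    have h11 : ∀ m : ℕ, ((q : ℤ) + 1) ∣ (∑ i ∈ range (2 * m + 1), (q : ℤ) ^ i) - 1 := by
      intro m
      induction m with
      | zero => simp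
      | succ k ih =>
        have e : 2 * (k + 1) + 1 = (2 * k + 1) + 1 + 1 := by ring
        rw [e, Finset.sum_range_succ, Finset.sum_range_succ]
        have e2 : (∑ i ∈ range (2 * k + 1), (q : ℤ) ^ i) + (q : ℤ) ^ (2 * k + 1) + (q : ℤ) ^ (2 * k + 1 + 1) - 1 =
          ((∑ i ∈ range (2 * k + 1), (q : ℤ) ^ i) - 1) + (q + 1) * (q : ℤ) ^ (2 * k + 1) := by ring
        rw [e2]
        exact dvd_add ih (dvd_mul_right _ _)
    rw [hm]; exact h11 m
  have h11 : ((q : ℤ) + 1) ∣ (a : ℤ) := by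
    have h12 : ((q : ℤ) + 1) ∣ (a : ℤ) * ((∑ i ∈ range n, (q : ℤ) ^ i) - 1) := Dvd.dvd.mul_left h10 _
    have h13 := dvd_sub h9 h12
    have e : (a : ℤ) * ∑ i ∈ range n, (q : ℤ) ^ i - (a : ℤ) * ((∑ i ∈ range n, (q : ℤ) ^ i) - 1) = a := by ring
    rwa [e] at h13
  have h12 : q + 1 ∣ 4 := by
    have h13 : q + 1 ∣ a := by exact_mod_cast h11
    exact h13.trans ha4
  have h13 := Nat.le_of_dvd (by norm_num) h12
  have h14 : q = 2 ∨ q = 3 := by omega
  rcases h14 with h14 | h14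
  · rw [h14] at h12; norm_num at h12
  · exact h14

theorem typA_of_kap (h : Real X p g M') (h2 : kap X ≠ 2) (h4 : kap X ≠ 4) : DM X < 2 * BM X := by
  by_contra hB
  have h5 := typB h hB
  generalize kap X = k at *
  generalize DM X = D at *
  cases h5 <;> omega

/-- the shapes whose second exponent is 3 or 6 -/
theorem shapes36 (h : Real X p g M') (h2 : kap X ≠ 2) (h4 : kap X ≠ 4) (hB : BM X ≤ 3 ∨ BM X = 6) :
    X = .L 4 ∨ X = .L 7 ∨ X = .C 4 ∨ X = .U 6 ∨ X = .D 5 ∨ X = .DD 4 := by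
  have hA := typA h (typA_of_kap h h2 h4)
  have hlt := BM_lt h
  have hlt2 := typA_of_kap h h2 h4
  generalize hd : DM X - BM X = d at *
  generalize hk : kap X = k at *
  generalize hD : DM X = D at *
  have hB' : D - d ≤ 3 ∨ D - d = 6 := by omega
  cases hA with
  | L n hn =>
    have : D = 4 ∨ D = 7 := by omega
    rcases this with rfl | rfl <;> simp
  | C n hn =>
    have : n = 4 := by omega
    subst this; simp
  | U4 => omega
  | Ue n hn =>
    have : n = 3 := by omega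
    subst this; simp
  | Uo n hn => omega
  | D n hn =>
    have : n = 5 := by omega
    subst this; simp
  | DD n hn =>
    have : n = 4 := by omega
    subst this; simp
  | F4 => omega
  | E6 => omega
  | E7 => omega
  | E8 => omega
  | TE6 => omega

set_option maxHeartbeats 4000000 in
/-- **Main combinatorial theorem.** -/
theorem near_of_eq (hX : Real X p g M') (hY : Real Y p f M) (hdvd : M' ∣ M) (hD : g * DM X = f * DM Y)
    (hk : kap X = kap Y) : (X = Y ∧ g = f) ∨ Exc X Y p g f := by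
  have fin : X = Y → g = f := by
    intro h
    subst h
    have := (DM_ge hX).1
    exact Nat.eq_of_mul_eq_mul_right (by omega) hD
  have fin' : (X = Y ∨ Exc X Y p g f) → (X = Y ∧ g = f) ∨ Exc X Y p g f := by
    rintro (h | h)
    · exact Or.inl ⟨h, fin h⟩
    · exact Or.inr h
  apply fin'
  by_cases h2 : kap X = 2
  · exact small2 hX hY hdvd hD hk h2
  by_cases h4 : kap X = 4
  · exact small4 hX hY hdvd hD hk h4
  have hA := typA_of_kap hX h2 h4
  have hA' := typA_of_kap hY (by rw [← hk]; exact h2) (by rw [← hk]; exact h4)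
  have LDD : ∀ n, X = .L n → Y = .DD n → X = Y ∨ Exc X Y p g f := by
    rintro n rfl rfl
    exact (LDD_false (show 4 ≤ n from hY.ok) hX hY hdvd hD hk).elim
  have DDL : ∀ n, X = .DD n → Y = .L n → X = Y ∨ Exc X Y p g f := by
    rintro n rfl rfl
    have h5 := DDL_exc (show 4 ≤ n from hX.ok) hX hY hdvd hD hk
    right; right; right; left
    exact ⟨n, hX.ok, rfl, rfl, h5.1, h5.2⟩
  by_cases hB : BM X ≤ 3 ∨ BM X = 6
  · have hY' := fam hY
    rw [← hk] at hY'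
    rcases shapes36 hX h2 h4 hB with rfl | rfl | rfl | rfl | rfl | rfl <;>
      rcases hY' with hY' | hY' | hY' | hY' | hY' | hY' | hY' | hY' | hY' | hY' | hY' | hY' | hY' | hY' | hY' | hY' <;>
      subst hY' <;>
      first
        | exact absurd hk (by decide)
        | exact absurd (show 4 ≤ 3 from hY.ok) (by decide)
        | exact Or.inl (by decide)
        | exact (KK_false hX hY hdvd hD (by decide)).elim
        | exact LDD 4 rfl rfl
        | exact LDD 7 rfl rfl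
        | exact DDL 4 rfl rfl
  · have h3 : 3 ≤ BM X := by omega
    have hg := hX.hf
    have h6 : ¬ (p = 2 ∧ g * BM X = 6) := by
      rintro ⟨-, h6⟩
      have h7 : BM X ∣ 6 := ⟨g, by rw [← h6]; ring⟩
      have h8 := Nat.le_of_dvd (by norm_num) h7
      have h9 : BM X = 4 ∨ BM X = 5 := by omega
      rcases h9 with h9 | h9 <;> rw [h9] at h7 <;> norm_num at h7
    obtain ⟨w, hw, hwD⟩ := ratio hX hY hdvd hD hA hA' h3 h6
    rcases pairsN (typA hX hA) (typA hY hA') hk hw hwD with h | ⟨n, h, h'⟩ | ⟨n, h, h'⟩ | h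
    · exact Or.inl h
    · exact LDD n h h'
    · exact DDL n h h'
    · have hN := exps hX hY hD hk
      have key := cross_dvd_Z hX hY hdvd hN
      have ha := dd_one_le hY
      have hb := dd_one_le hX
      have hp2 := hX.hp.two_le
      have pw : ∀ a b : ℕ, (p : ℤ) ^ (a * b) = ((p : ℤ) ^ b) ^ a := fun a b => by rw [mul_comm, pow_mul]
      have htt : ∀ u, 1 ≤ u → (2 : ℤ) ≤ (p : ℤ) ^ u := by
        intro u hu
        have h1 : 2 ≤ p ^ u := hp2.trans (Nat.le_self_pow (by omega) p)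
        exact_mod_cast h1
      have hf := hY.hf
      simp only [lst, List.mem_cons, Prod.mk.injEq, List.not_mem_nil, or_false] at h
      rcases h with ⟨rfl, rfl⟩ | ⟨rfl, rfl⟩ | ⟨rfl, rfl⟩ | ⟨rfl, rfl⟩ | ⟨rfl, rfl⟩ | ⟨rfl, rfl⟩ | ⟨rfl, rfl⟩ |
        ⟨rfl, rfl⟩ | ⟨rfl, rfl⟩ | ⟨rfl, rfl⟩ | ⟨rfl, rfl⟩ | ⟨rfl, rfl⟩ | ⟨rfl, rfl⟩ | ⟨rfl, rfl⟩ | ⟨rfl, rfl⟩
      · exact absurd rfl h4
      · exact absurd rfl h4
      · exact (KK_false hX hY hdvd hD (by decide)).elim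
      · -- D4 F4
        exfalso
        have h5 : g * 6 = f * 12 := hD
        obtain rfl : g = 2 * f := by omega
        rw [pw, nD4] at key
        exact s_D4F4 (htt f hf) ha hb (dD4 _) key
      · exact (KK_false hX hY hdvd hD (by decide)).elim
      · exact (KK_false hX hY hdvd hD (by decide)).elim
      · exact (KK_false hX hY hdvd hD (by decide)).elim
      · exact (KK_false hX hY hdvd hD (by decide)).elim
      · -- F4 D4
        exfalso
        have h5 : g * 12 = f * 6 := hD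
        obtain rfl : f = 2 * g := by omega
        rw [pw, nD4] at key
        exact s_F4D4 (htt g hg) ha key
      · exact (KK_false hX hY hdvd hD (by decide)).elim
      · exact (KK_false hX hY hdvd hD (by decide)).elim
      · exact (KK_false hX hY hdvd hD (by decide)).elim
      · exact (KK_false hX hY hdvd hD (by decide)).elim
      · exact (KK_false hX hY hdvd hD (by decide)).elim
      · exact (KK_false hX hY hdvd hD (by decide)).elim

theorem kap_even (h : Real X p g M') : kap X % 2 = 0 := by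
  have hok := h.ok
  cases X with
  | L n => show 2 * (n - 1) % 2 = 0; omega
  | C n => show 2 * n % 2 = 0; omega
  | U n =>
    have hn : 3 ≤ n := hok.1
    show (if Even n then n else n - 1) % 2 = 0
    split_ifs with h1
    · exact Nat.even_iff.1 h1
    · have := Nat.odd_iff.1 (Nat.not_even_iff_odd.1 h1)
      omega
  | D n => show 2 * n % 2 = 0; omega
  | DD n => show 2 * (n - 1) % 2 = 0; omega
  | G2 => rfl
  | F4 => rfl
  | E6 => rfl
  | E7 => rfl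
  | E8 => rfl
  | TE6 => rfl
  | TD4 => rfl
  | Sz => rfl
  | Ree => rfl
  | TF4 => rfl

theorem exp_le (hX : Real X p g M') (hY : Real Y p f M) (hdvd : M' ∣ M) : g * NN X ≤ f * NN Y := by
  rw [P_prime_exp hX, P_prime_exp hY]
  exact (Nat.factorization_le_iff_dvd hX.M_ne hY.M_ne).2 hdvd p

/-- the invariant `kap` agrees if the `p`-parts are almost equal -/
theorem kap_eq (hX : Real X p g M') (hY : Real Y p f M) (hdvd : M' ∣ M) (hD : g * DM X = f * DM Y)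
    (hδ : 2 * (f * NN Y - g * NN X) < f * DM Y) : kap X = kap Y := by
  have hle := exp_le hX hY hdvd
  have h1 : 4 * (g * NN X) = (g * DM X) * kap X := by
    calc 4 * (g * NN X) = g * (4 * NN X) := by ring
      _ = _ := by rw [four_NN hX]; ring
  have h2 : 4 * (f * NN Y) = (f * DM Y) * kap Y := by
    calc 4 * (f * NN Y) = f * (4 * NN Y) := by ring
      _ = _ := by rw [four_NN hY]; ring
  rw [hD] at h1
  have hG : 0 < f * DM Y := by omega
  have e1 := kap_even hX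
  have e2 := kap_even hY
  generalize f * DM Y = G at *
  rcases lt_trichotomy (kap X) (kap Y) with h | h | h
  · exfalso
    have h3 : G * (kap X + 2) ≤ G * kap Y := Nat.mul_le_mul_left _ (by omega)
    have h4 : G * (kap X + 2) = G * kap X + 2 * G := by ring
    omega
  · exact h
  · exfalso
    have h3 : G * (kap Y + 1) ≤ G * kap X := Nat.mul_le_mul_left _ (by omega)
    have h4 : G * (kap Y + 1) = G * kap Y + G := by ring
    omega

/-- a primitive prime divisor of the larger order divides the smaller one: the largest exponents agree, up to the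
failure of Zsigmondy's theorem -/
theorem D_cases (hX : Real X p g M') (hY : Real Y p f M) (hdvd : M' ∣ M) {r : ℕ} (hr : r.Prime)
    (ho : orderOf (p : ZMod r) = f * DM Y) (h3 : 3 ≤ f * DM Y) (hrM : r ∣ M') :
    g * DM X = f * DM Y ∨ (p = 2 ∧ g * DM X = 6 ∧ f * DM Y < 6) := by
  have hg := hX.hf
  have hf := hY.hf
  have hgeX := DM_ge hX
  have hltX := BM_lt hX
  have hgeY := DM_ge hY
  have hltY := BM_lt hY
  have hrp : r ≠ p := ne_of_order hr (show 1 ≤ f * DM Y by omega) ho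
  have h1 : f * DM Y ≤ g * DM X := by
    rcases hX.order_cases hr hrp hrM with h | ⟨e, he, heB, h⟩
    · rw [ho] at h
      exact Nat.le_of_dvd (Nat.mul_pos hg (by omega)) h
    · rw [ho] at h
      exact (Nat.le_of_dvd (Nat.mul_pos hg he) h).trans (Nat.mul_le_mul_left _ (by omega))
  by_cases h6 : p = 2 ∧ g * DM X = 6
  · by_cases h7 : f * DM Y = 6
    · left; rw [h6.2, h7]
    · right; exact ⟨h6.1, h6.2, by omega⟩
  · left
    refine le_antisymm ?_ h1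
    obtain ⟨t, ht, hot⟩ := exists_prime_orderOf hX.hp.two_le (show 2 ≤ g * DM X by omega) (fun h => by omega) h6
    have htp : t ≠ p := ne_of_order ht (show 1 ≤ g * DM X by omega) hot
    have hd := (hX.dvd_of_order_DM ht hot (by omega)).trans hdvd
    rcases hY.order_cases ht htp hd with h | ⟨e, he, heB, h⟩
    · rw [hot] at h
      exact Nat.le_of_dvd (Nat.mul_pos hf (by omega)) h
    · rw [hot] at h
      exact (Nat.le_of_dvd (Nat.mul_pos hf he) h).trans (Nat.mul_le_mul_left _ (by omega))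

theorem fin_six : ∀ v ∈ List.range 22, ∀ a ∈ ents 2 v, a.2 * DM a.1 = 6 → ∀ w ∈ List.range 11, ∀ b ∈ ents 2 w,
    3 ≤ b.2 * DM b.1 → b.2 * DM b.1 < 6 → val 2 a ∣ val 2 b →
    (2 * (w - v) < b.2 * DM b.1 ∨ 2 ^ (w - v) ∣ 6 * a.2) → a = (Sh.L 3, 2) ∧ b = (Sh.L 4, 1) := by
  rw [Cfsg.Agent.H902.EntsFast.ents_eq, Cfsg.Agent.H902.EntsFast.val_eqF]
  decide +kernel

theorem six_case (hX : Real X 2 g M') (hY : Real Y 2 f M) (hdvd : M' ∣ M) (h6 : g * DM X = 6) (h3 : 3 ≤ f * DM Y)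
    (hlt : f * DM Y < 6)
    (hδ : 2 * (f * NN Y - g * NN X) < f * DM Y ∨ 2 ^ (f * NN Y - g * NN X) ∣ 6 * g) : Exc X Y 2 g f := by
  have h1 := bound_DM hX h6
  have hf := hY.hf
  have h2 : f * NN Y ≤ 10 := by
    have h4 := four_NN hY
    have h5 := kap_le hY
    have h7 : DM Y ≤ 5 := by nlinarith
    have h8 : 4 * (f * NN Y) = (f * DM Y) * kap Y := by
      calc 4 * (f * NN Y) = f * (4 * NN Y) := by ring
        _ = _ := by rw [h4]; ring
    have h9 : (f * DM Y) * kap Y ≤ 5 * 8 := Nat.mul_le_mul (by omega) (by omega)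
    omega
  have h := fin_six _ (by rw [List.mem_range]; omega) _ (mem_ents hX rfl) h6 _ (by rw [List.mem_range]; omega)
    _ (mem_ents hY rfl) h3 hlt (by rw [val_eq hX, val_eq hY]; exact hdvd) hδ
  obtain ⟨h4, h5⟩ := h
  left
  exact ⟨congrArg Prod.fst h4, congrArg Prod.fst h5, rfl, congrArg Prod.snd h4, congrArg Prod.snd h5⟩

/-- **NearEqual.** Let `|X(p^g)|` divide `|Y(p^f)|`, let a primitive prime divisor for the largest exponent of `Y`
divide `|X(p^g)|`, and let the `p`-parts be almost equal. Then `X = Y` and `g = f`, up to explicit exceptions. -/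
theorem near (hX : Real X p g M') (hY : Real Y p f M) (hdvd : M' ∣ M) {r : ℕ} (hr : r.Prime)
    (ho : orderOf (p : ZMod r) = f * DM Y) (h3 : 3 ≤ f * DM Y) (hrM : r ∣ M')
    (hδ : 2 * (f * NN Y - g * NN X) < f * DM Y) : (X = Y ∧ g = f) ∨ Exc X Y p g f := by
  rcases D_cases hX hY hdvd hr ho h3 hrM with hD | ⟨rfl, h6, hlt⟩
  · exact near_of_eq hX hY hdvd hD (kap_eq hX hY hdvd hD hδ)
  · exact Or.inr (six_case hX hY hdvd h6 h3 hlt (Or.inl hδ))

/-- the same when the largest exponents are known to agree -/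
theorem near_of_D (hX : Real X p g M') (hY : Real Y p f M) (hdvd : M' ∣ M) (hD : g * DM X = f * DM Y)
    (hδ : 2 * (f * NN Y - g * NN X) < f * DM Y) : (X = Y ∧ g = f) ∨ Exc X Y p g f :=
  near_of_eq hX hY hdvd hD (kap_eq hX hY hdvd hD hδ)

theorem lt_pow' {δ : ℕ} (h : 3 ≤ δ) : δ < 2 ^ (δ - 1) := by
  induction δ, h using Nat.le_induction with
  | base => norm_num
  | succ k hk ih =>
    have e : k + 1 - 1 = (k - 1) + 1 := by omega
    rw [e, pow_succ]; omega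

/-- the divisibility form of the bound -/
theorem delta_lt (hX : Real X p g M') (hY : Real Y p f M) (hD : g * DM X = f * DM Y) (h3 : 3 ≤ f * DM Y)
    (h24 : p ^ (f * NN Y - g * NN X) ∣ 24 * g) (h6 : p = 2 → 2 ^ (f * NN Y - g * NN X) ∣ 6 * g) :
    2 * (f * NN Y - g * NN X) < f * DM Y := by
  have hp := hX.hp
  have hg := hX.hf
  have hDX := (DM_ge hX).1
  have hG : 2 * g ≤ f * DM Y := by rw [← hD]; nlinarith
  generalize hδ : f * NN Y - g * NN X = δ at *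
  by_cases hδ0 : δ = 0
  · omega
  by_cases hp2 : p = 2
  · subst hp2
    have h7 := h6 rfl
    have h8 : 2 ^ (δ - 1) ∣ g := by
      have h9 : 2 ^ δ ∣ 2 * (3 * g) := by rw [← mul_assoc]; exact h7
      have h10 : 2 * 2 ^ (δ - 1) ∣ 2 * (3 * g) := by
        have : 2 * 2 ^ (δ - 1) = 2 ^ δ := by
          rw [← pow_succ']; congr 1; omega
        rw [this]; exact h9
      have h11 := Nat.dvd_of_mul_dvd_mul_left (by norm_num) h10
      exact (Nat.Coprime.pow_left _ (by norm_num)).dvd_of_dvd_mul_left h11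
    have h9 := Nat.le_of_dvd (by omega) h8
    by_cases h10 : 3 ≤ δ
    · have := lt_pow' h10
      omega
    · have h11 : δ = 1 ∨ δ = 2 := by omega
      rcases h11 with rfl | rfl
      · omega
      · norm_num at h9
        by_contra hcon
        -- `G = 4`, `g = 2`, `X = L₂(4)`
        have h12 : g = 2 := by omega
        have h13 : DM X = 2 := by
          rw [h12] at hD; omega
        have h14 := DM_eq_two hX (by omega)
        subst h14
        have h15 : NN (.L 2) = 1 := rfl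
        have h16 : f * NN Y = 4 := by rw [h12, h15] at hδ; omega
        have h17 : f * DM Y = 4 := by omega
        have h18 : 4 * (f * NN Y) = (f * DM Y) * kap Y := by
          calc 4 * (f * NN Y) = f * (4 * NN Y) := by ring
            _ = _ := by rw [four_NN hY]; ring
        have h19 : kap Y = 4 := by rw [h16, h17] at h18; omega
        have hok := hY.ok
        rcases fam4 hY h19 with rfl | rfl | rfl | rfl | rfl | rfl | rfl
        · have : f * 3 = 4 := h17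
          omega
        · have h20 : f * 4 = 4 := h17
          have h21 : f = 1 := by omega
          subst h21
          exact absurd (hok.2 rfl) (by norm_num)
        · have : f * 6 = 4 := h17
          omega
        · have : f * 10 = 4 := h17
          omega
        · have : f * 6 = 4 := h17
          omega
        · have : f * 12 = 4 := h17
          omega
        · have : f * 12 = 4 := h17
          omega
  by_cases hp3 : p = 3
  · subst hp3
    have h8 : 3 ^ (δ - 1) ∣ g := by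
      have h10 : 3 * 3 ^ (δ - 1) ∣ 3 * (8 * g) := by
        have : 3 * 3 ^ (δ - 1) = 3 ^ δ := by
          rw [← pow_succ']; congr 1; omega
        rw [this, ← mul_assoc]; exact h24
      have h11 := Nat.dvd_of_mul_dvd_mul_left (by norm_num) h10
      exact (Nat.Coprime.pow_left _ (by norm_num)).dvd_of_dvd_mul_left h11
    have h9 := Nat.le_of_dvd (by omega) h8
    by_cases h10 : δ = 1
    · omega
    · have h11 : δ - 1 + 1 < 3 ^ (δ - 1) := by
        have h12 : ∀ k : ℕ, 1 ≤ k → k + 1 < 3 ^ k := by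
          intro k hk
          induction k, hk using Nat.le_induction with
          | base => norm_num
          | succ k hk ih => rw [pow_succ]; omega
        exact h12 _ (by omega)
      omega
  · have h5 : 5 ≤ p := by
      have := hp.two_le
      by_contra h
      have h7 : p = 4 := by omega
      rw [h7] at hp; exact absurd hp (by decide)
    have hc : Nat.Coprime p 24 := by
      rw [hp.coprime_iff_not_dvd]
      intro h
      have h7 : p ∣ 2 ^ 3 * 3 := h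
      rcases hp.dvd_mul.1 h7 with h8 | h8
      · exact hp2 ((Nat.prime_dvd_prime_iff_eq hp Nat.prime_two).1 (hp.dvd_of_dvd_pow h8))
      · exact hp3 ((Nat.prime_dvd_prime_iff_eq hp Nat.prime_three).1 h8)
    have h8 : p ^ δ ∣ g := (Nat.Coprime.pow_left _ hc).dvd_of_dvd_mul_left h24
    have h9 := Nat.le_of_dvd (by omega) h8
    have h10 : δ < p ^ δ := Nat.lt_pow_self (by omega)
    omega

/-- **NearEqual**, divisibility form: the defect of the `p`-parts divides (as a power of `p`) `24 g`, and `6 g` if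
`p = 2` — the bound coming from the order of the outer automorphism group. -/
theorem near_out (hX : Real X p g M') (hY : Real Y p f M) (hdvd : M' ∣ M) {r : ℕ} (hr : r.Prime)
    (ho : orderOf (p : ZMod r) = f * DM Y) (h3 : 3 ≤ f * DM Y) (hrM : r ∣ M')
    (h24 : p ^ (f * NN Y - g * NN X) ∣ 24 * g) (h6 : p = 2 → 2 ^ (f * NN Y - g * NN X) ∣ 6 * g) :
    (X = Y ∧ g = f) ∨ Exc X Y p g f := by
  rcases D_cases hX hY hdvd hr ho h3 hrM with hD | ⟨rfl, h7, hlt⟩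
  · exact near_of_D hX hY hdvd hD (delta_lt hX hY hD h3 h24 h6)
  · exact Or.inr (six_case hX hY hdvd h7 h3 hlt (Or.inr (h6 rfl)))

end

end Cfsg.Agent.H365.Near
end
end
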