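import Mathlib
import Cfsg.Agent.H374.SpFour
import Cfsg.Agent.H364.Iso3_m3
import Cfsg.Agent.H364.LieNam
import Cfsg.Agent.H902.Zs_m3
import Cfsg.Agent.H902.Enum
import Cfsg.Agent.Lib.Zsigmondy
import Cfsg.Agent.Prune
set_option linter.all false
prune_inst 0x7f00000000000000000000000000000000000000000000000000000000000000000000000000000000000000000000000000000000000000000000000000000000000000000000000000000000000000003fffffffffffffffffffffffffffbeffbdffffffff
open scoped Cfsg.Agent.FastGrp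

/-!
# Groups with the order and the spectrum of `PSp₄(q)`: arithmetic and the isolated torus
-/

set_option autoImplicit false

namespace Cfsg.Agent.H365.SpFour

open Subgroup Cfsg.Agent.H364 Cfsg.Agent.H374.Quad

/-- the order of the isolated torus -/
def tt (q : ℕ) : ℕ := (q ^ 2 + 1) / Nat.gcd 2 (q - 1)

section Arith

variable {q : ℕ}

theorem mul_tt (hq : 2 ≤ q) : Nat.gcd 2 (q - 1) * tt q = q ^ 2 + 1 := by
  apply Nat.mul_div_cancel'
  rcases Nat.even_or_odd q with he | ho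
  · have h1 : Nat.Coprime 2 (q - 1) := by
      rw [Nat.coprime_two_left]
      obtain ⟨c, hc⟩ := he
      exact ⟨c - 1, by omega⟩
    rw [h1]; exact one_dvd _
  · refine (Nat.gcd_dvd_left _ _).trans ?_
    obtain ⟨c, hc⟩ := ho
    exact ⟨2 * c ^ 2 + 2 * c + 1, by rw [hc]; ring⟩

theorem gcd_even (h : Even q) (hq : 2 ≤ q) : Nat.gcd 2 (q - 1) = 1 := by
  have h1 : Nat.Coprime 2 (q - 1) := by
    rw [Nat.coprime_two_left]
    obtain ⟨c, hc⟩ := h
    exact ⟨c - 1, by omega⟩
  exact h1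

theorem gcd_odd (h : Odd q) : Nat.gcd 2 (q - 1) = 2 := by
  apply Nat.gcd_eq_left
  obtain ⟨c, hc⟩ := h
  exact ⟨c, by omega⟩

theorem tt_even (h : Even q) (hq : 2 ≤ q) : tt q = q ^ 2 + 1 := by
  rw [← mul_tt hq, gcd_even h hq, one_mul]

theorem tt_odd (h : Odd q) (hq : 2 ≤ q) : 2 * tt q = q ^ 2 + 1 := by
  rw [← mul_tt hq, gcd_odd h]

theorem odd_tt (hq : 2 ≤ q) : Odd (tt q) := by
  rcases Nat.even_or_odd q with he | ho
  · rw [tt_even he hq]
    exact (he.pow_of_ne_zero (by norm_num)).add_one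
  · have h1 := tt_odd ho hq
    obtain ⟨c, hc⟩ := ho
    refine ⟨c ^ 2 + c, ?_⟩
    have h2 : q ^ 2 + 1 = 2 * (2 * (c ^ 2 + c) + 1) := by rw [hc]; ring
    omega

theorem two_tt (hq : 2 ≤ q) : ¬ 2 ∣ tt q := by
  have := odd_tt hq
  rw [← even_iff_two_dvd, Nat.not_even_iff_odd]
  exact this

theorem tt_dvd (hq : 2 ≤ q) : tt q ∣ q ^ 2 + 1 := Dvd.intro_left _ (mul_tt hq)

theorem tt_ge (hq : 3 ≤ q) : 5 ≤ tt q := by
  rcases Nat.even_or_odd q with he | ho
  · rw [tt_even he (by omega)]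
    nlinarith
  · have h1 := tt_odd ho (by omega)
    nlinarith

theorem cop_q (hq : 2 ≤ q) : Nat.Coprime (tt q) q := by
  apply Nat.Coprime.coprime_dvd_left (tt_dvd hq)
  rw [pow_two]
  exact (Nat.coprime_mul_right_add_left _ _ _).2 (Nat.coprime_one_left _)

theorem cop_sq (hq : 2 ≤ q) : Nat.Coprime (tt q) (q ^ 2 - 1) := by
  apply Nat.coprime_of_dvd
  intro k hk h1 h2
  have h3 := h1.trans (tt_dvd hq)
  have h4 : 1 ≤ q ^ 2 := Nat.one_le_pow _ _ (by omega)
  have h5 : k ∣ (q ^ 2 + 1) - (q ^ 2 - 1) := Nat.dvd_sub h3 h2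
  have h6 : (q ^ 2 + 1) - (q ^ 2 - 1) = 2 := by omega
  rw [h6] at h5
  have h7 := (Nat.prime_dvd_prime_iff_eq hk Nat.prime_two).1 h5
  subst h7
  exact two_tt hq h1

theorem sq_eq (hq : 2 ≤ q) : q ^ 2 - 1 = (q - 1) * (q + 1) := by
  obtain ⟨c, rfl⟩ := Nat.exists_eq_add_of_le' (show 1 ≤ q by omega)
  rw [Nat.add_sub_cancel]
  have : (c + 1) ^ 2 = c * (c + 1 + 1) + 1 := by ring
  rw [this, Nat.add_sub_cancel]

end Arith

section Grp

variable {G : Type*} [Group G] [Finite G] {F : Type*} [Field F] [Fintype F]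

/-- the order -/
theorem card_mul {p f M : ℕ} (h : H902.Art.Real (.C 2) p f M) :
    M = (p ^ f) ^ 4 * ((p ^ f) ^ 2 - 1) ^ 2 * tt (p ^ f) := by
  have hq := h.q_ge
  have h1 := h.eq
  set q := p ^ f with hqdef
  have hd : 0 < Nat.gcd 2 (q - 1) := Nat.gcd_pos_of_pos_left _ (by norm_num)
  apply Nat.eq_of_mul_eq_mul_left hd
  have h2 : H902.Art.dd (.C 2) q = Nat.gcd 2 (q - 1) := rfl
  have h3 : H902.Art.NN (.C 2) = 4 := rfl
  have h4 : H902.Art.num (.C 2) q = (q ^ 2 - 1) * (q ^ 4 - 1) := by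
    simp [H902.Art.num, Finset.prod_range_succ]
  rw [h2, h3, h4] at h1
  have h5 : q ^ 4 - 1 = (q ^ 2 - 1) * (q ^ 2 + 1) := by
    have h6 : 1 ≤ q ^ 2 := Nat.one_le_pow _ _ (by omega)
    have h7 : 1 ≤ q ^ 4 := Nat.one_le_pow _ _ (by omega)
    zify [h6, h7]; ring
  rw [h1, h5, ← mul_tt hq]
  ring

theorem exists_isol (h3 : 3 ≤ Fintype.card F) {p f : ℕ} (hF : Fintype.card F = p ^ f)
    (hY : H902.Art.Real (.C 2) p f (Nat.card G))
    (hspec : Set.range (orderOf : G → ℕ) = Set.range (orderOf : Cfsg.PSp 2 F → ℕ)) :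
    ∃ T : Subgroup G, Isol G T (tt (Fintype.card F)) := by
  have hspec' : ∀ m, m ∈ Set.range (orderOf : G → ℕ) ↔ Om (ringChar F) (Fintype.card F) m := fun m => by
    rw [hspec, Cfsg.Agent.H374.SpFour.mem_range_iff h3]
  set q := Fintype.card F with hq
  have hq2 : 2 ≤ q := by omega
  obtain ⟨n, hp, hcard⟩ := FiniteField.card F (ringChar F)
  rw [← hq] at hcard
  obtain ⟨x, hx⟩ := (hspec' (tt q)).2 (Or.inr (Or.inr (Or.inr (Or.inl dvd_rfl))))
  refine ⟨zpowers x, inferInstance, by rw [Nat.card_zpowers, hx], ?_, ?_⟩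
  · rw [card_mul hY, ← hF, Nat.mul_div_cancel _ (by have := tt_ge h3; omega)]
    exact Nat.Coprime.mul_right ((cop_q hq2).pow_right 4) ((cop_sq hq2).pow_right 2)
  · intro r s hr hs hrt hst z hz
    have h4 : Om (ringChar F) q (r * s) := (hspec' _).1 ⟨z, hz⟩
    have hrp : ¬ r ∣ ringChar F := fun h5 => by
      have h6 : r ∣ q := by rw [hcard]; exact dvd_pow h5 n.2.ne'
      have := Nat.dvd_gcd hrt h6
      rw [cop_q hq2] at this
      exact hr.one_lt.ne' (Nat.dvd_one.1 this)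
    have hrs : ¬ r ∣ q ^ 2 - 1 := fun h5 => by
      have := Nat.dvd_gcd hrt h5
      rw [cop_sq hq2] at this
      exact hr.one_lt.ne' (Nat.dvd_one.1 this)
    have hr1 : ¬ r ∣ q - 1 := fun h5 => hrs (by rw [sq_eq hq2]; exact h5.mul_right _)
    have hr2 : ¬ r ∣ q + 1 := fun h5 => hrs (by rw [sq_eq hq2]; exact h5.mul_left _)
    rcases h4 with h4 | h4 | h4 | h4 | ⟨hp3, h4⟩ | ⟨hp2, h4⟩
    · rcases (hr.dvd_mul).1 ((Dvd.intro _ rfl).trans h4) with h5 | h5
      · exact hrp h5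
      · exact hr1 h5
    · rcases (hr.dvd_mul).1 ((Dvd.intro _ rfl).trans h4) with h5 | h5
      · exact hrp h5
      · exact hr2 h5
    · apply hrs
      have h5 : r ∣ (q ^ 2 - 1) / Nat.gcd 2 (q - 1) := (Dvd.intro _ rfl).trans h4
      refine h5.trans (Nat.div_dvd_of_dvd ?_)
      refine (Nat.gcd_dvd_right _ _).trans ?_
      rw [sq_eq hq2]; exact Dvd.intro _ rfl
    · exact hst ((Dvd.intro_left _ rfl).trans h4)
    · have h5 : r ∣ 3 ^ 2 := (Dvd.intro _ rfl).trans h4
      exact hrp (by rw [hp3]; exact hr.dvd_of_dvd_pow h5)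
    · have h5 : r ∣ 2 ^ 2 := (Dvd.intro _ rfl).trans h4
      exact hrp (by rw [hp2]; exact hr.dvd_of_dvd_pow h5)

end Grp

end Cfsg.Agent.H365.SpFour

private theorem dce_ef0aef30eb9b : _root_.True := by
  try have : _root_.True := by simp only [_root_.Cfsg.Agent.H902.Art.num.eq_10]
  try have : _root_.True := by simp only [_root_.Cfsg.Agent.H902.Art.num.eq_13]
  try have : _root_.True := by simp only [_root_.Cfsg.Agent.H902.Art.num.eq_11]
  try have : _root_.True := by simp only [_root_.Cfsg.Agent.H902.Art.num.eq_14]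
  try have : _root_.True := by simp only [_root_.Cfsg.Agent.H902.Art.num.eq_6]
  try have : _root_.True := by simp only [_root_.Cfsg.Agent.H902.Art.num.eq_1]
  try have : _root_.True := by simp only [_root_.Cfsg.Agent.H902.Art.num.eq_15]
  try have : _root_.True := by simp only [_root_.Cfsg.Agent.H902.Art.num.eq_2]
  try have : _root_.True := by simp only [_root_.Cfsg.Agent.H902.Art.num.eq_4]
  try have : _root_.True := by simp only [_root_.Cfsg.Agent.H902.Art.num.eq_8]
  try have : _root_.True := by simp only [_root_.Cfsg.Agent.H902.Art.num.eq_7]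
  try have : _root_.True := by simp only [_root_.Cfsg.Agent.H902.Art.num.eq_9]
  try have : _root_.True := by simp only [_root_.Cfsg.Agent.H902.Art.num.eq_5]
  try have : _root_.True := by simp only [_root_.Cfsg.Agent.H902.Art.num.eq_12]
  try have : _root_.True := by simp only [_root_.Cfsg.Agent.H902.Art.num.eq_3]
  exact _root_.True.intro
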